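/-
Two maps from an injective resolution to a complex of injectives which agree on the augmentation
are homotopic; naturality of the comparison between `H^i ∘ Ψ` and `Ψ ∘ H^i`.
-/
import Groth.Prelude.Def_RDer
import Mathlib

set_option autoImplicit false
set_option linter.all false
set_option backward.isDefEq.respectTransparency false

universe v u v' u'

open CategoryTheory CategoryTheory.Limits HomologicalComplex

namespace EtBcQLib

variable {A : Type u} [Category.{v} A] [Abelian A]

/-- A map from an injective resolution to a complex of injectives which kills the augmentation is null-homotopic. -/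
theorem nonempty_homotopy_zero {X : A} (I : InjectiveResolution X) (L : CochainComplex A ℕ)
    [∀ n, Injective (L.X n)] (f : I.cocomplex ⟶ L) (h : I.ι.f 0 ≫ f.f 0 = 0) :
    Nonempty (Homotopy f 0) := by
  obtain ⟨h₀, e₀⟩ : ∃ h₀ : I.cocomplex.X 1 ⟶ L.X 0, I.cocomplex.d 0 1 ≫ h₀ = f.f 0 :=
    ⟨I.exact₀.descToInjective (f.f 0) h, I.exact₀.comp_descToInjective _ _⟩
  obtain ⟨h₁, e₁⟩ : ∃ h₁ : I.cocomplex.X 2 ⟶ L.X 1, I.cocomplex.d 1 2 ≫ h₁ = f.f 1 - h₀ ≫ L.d 0 1 :=
    ⟨(I.exact_succ 0).descToInjective (f.f 1 - h₀ ≫ L.d 0 1)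
        (by rw [Preadditive.comp_sub, ← Category.assoc, e₀, HomologicalComplex.Hom.comm, sub_self]),
      (I.exact_succ 0).comp_descToInjective _ _⟩
  refine ⟨Homotopy.mkCoinductive _ h₀ (by simpa using e₀.symm) h₁ (by rw [e₁]; abel) (fun n ⟨g, g', w⟩ =>
    ⟨(I.exact_succ (n + 1)).descToInjective (f.f (n + 2) - g' ≫ L.d _ _) ?_, ?_⟩)⟩
  · have w' : f.f (n + 1) = I.cocomplex.d (n + 1) (n + 2) ≫ g' + g ≫ L.d n (n + 1) := by
      simpa [add_comm] using w
    rw [Preadditive.comp_sub, ← HomologicalComplex.Hom.comm, w', Preadditive.add_comp,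
      Category.assoc, Category.assoc, HomologicalComplex.d_comp_d, comp_zero, add_zero, sub_self]
  · erw [(I.exact_succ (n + 1)).comp_descToInjective]
    exact (add_sub_cancel _ _).symm

/-- Two maps from an injective resolution to a complex of injectives over the same map are homotopic. -/
theorem nonempty_homotopy {X : A} (I : InjectiveResolution X) (L : CochainComplex A ℕ)
    [∀ n, Injective (L.X n)] (f g : I.cocomplex ⟶ L) (h : I.ι.f 0 ≫ f.f 0 = I.ι.f 0 ≫ g.f 0) :
    Nonempty (Homotopy f g) :=
  (nonempty_homotopy_zero I L (f - g)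
    (by rw [HomologicalComplex.sub_f_apply, Preadditive.comp_sub, h, sub_self])).map Homotopy.equivSubZero.symm

variable {B : Type u'} [Category.{v'} B] [Abelian B] (Ψ : A ⥤ B) [Ψ.Additive] [PreservesFiniteLimits Ψ]

/-- The comparison of cycles is natural. -/
theorem cyclesComparison_naturality {K L : CochainComplex A ℕ} (k : K ⟶ L) (i : ℕ) :
    RDer.cyclesComparison Ψ K i ≫ Ψ.map (cyclesMap k i) =
      cyclesMap ((Ψ.mapHomologicalComplex _).map k) i ≫ RDer.cyclesComparison Ψ L i := by
  haveI : Mono (Ψ.map (L.iCycles i)) := CategoryTheory.preserves_mono_of_preservesLimit _ _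
  rw [← cancel_mono (Ψ.map (L.iCycles i)), Category.assoc, Category.assoc, RDer.cyclesComparison_i,
    ← Ψ.map_comp, cyclesMap_i, Ψ.map_comp, RDer.cyclesComparison_i_assoc, cyclesMap_i,
    Functor.mapHomologicalComplex_map_f]

/-- The comparison of homology is natural. -/
theorem homologyComparison_naturality {K L : CochainComplex A ℕ} (k : K ⟶ L) (i : ℕ) :
    RDer.homologyComparison Ψ K i ≫ Ψ.map (homologyMap k i) =
      homologyMap ((Ψ.mapHomologicalComplex _).map k) i ≫ RDer.homologyComparison Ψ L i := by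
  rw [← cancel_epi (((Ψ.mapHomologicalComplex _).obj K).homologyπ i), RDer.homologyπ_homologyComparison_assoc,
    ← Ψ.map_comp, homologyπ_naturality, Ψ.map_comp, homologyπ_naturality_assoc,
    RDer.homologyπ_homologyComparison, ← Category.assoc, ← Category.assoc, cyclesComparison_naturality]

end EtBcQLib
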