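/-
The comparison between `H^i ∘ Ψ` and `Ψ ∘ H^i` commutes with the connecting morphisms of a degreewise split
short exact sequence of complexes.
-/
import Groth.Agent.EtBcQLib.Homotopy

set_option autoImplicit false
set_option linter.all false
set_option backward.isDefEq.respectTransparency false

universe v u v' u'

open CategoryTheory CategoryTheory.Limits HomologicalComplex

namespace EtBcQLib

variable {A : Type u} [Category.{v} A] [Abelian A] {B : Type u'} [Category.{v'} B] [Abelian B]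

/-- A functor applied to a degreewise split short complex of complexes gives a short exact sequence. -/
theorem map_shortExact (L : ShortComplex (CochainComplex A ℕ))
    (σ : ∀ n, (L.map (HomologicalComplex.eval A _ n)).Splitting) (F : A ⥤ B) [F.Additive] :
    (L.map (F.mapHomologicalComplex (ComplexShape.up ℕ))).ShortExact := by
  apply HomologicalComplex.shortExact_of_degreewise_shortExact
  intro n
  exact ((σ n).map F).shortExact

theorem shortExact_of_splitting (L : ShortComplex (CochainComplex A ℕ))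
    (σ : ∀ n, (L.map (HomologicalComplex.eval A _ n)).Splitting) : L.ShortExact := by
  apply HomologicalComplex.shortExact_of_degreewise_shortExact
  intro n
  exact (σ n).shortExact

/-- The connecting morphism of a degreewise split sequence, on cycles. -/
theorem homologyπ_δ {L : ShortComplex (CochainComplex A ℕ)} (hL : L.ShortExact) (i j : ℕ) (h : i + 1 = j)
    {T : A} (z : T ⟶ L.X₃.cycles i) (x₂ : T ⟶ L.X₂.X i) (hx₂ : x₂ ≫ L.g.f i = z ≫ L.X₃.iCycles i)
    (y : T ⟶ L.X₁.cycles j) (hy : y ≫ L.X₁.iCycles j ≫ L.f.f j = x₂ ≫ L.X₂.d i j) :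
    z ≫ L.X₃.homologyπ i ≫ hL.δ i j h = y ≫ L.X₁.homologyπ j := by
  have hz : (z ≫ L.X₃.iCycles i) ≫ L.X₃.d i j = 0 := by
    rw [Category.assoc, iCycles_d, comp_zero]
  have key := hL.δ_eq i j h (z ≫ L.X₃.iCycles i) hz x₂ hx₂ (y ≫ L.X₁.iCycles j)
    (by rw [Category.assoc]; exact hy) (j + 1) (CochainComplex.next ℕ j)
  refine Eq.trans ?_ (key.trans ?_)
  · exact congrArg (· ≫ L.X₃.homologyπ i ≫ hL.δ i j h)
      ((cancel_mono (L.X₃.iCycles i)).1 (liftCycles_i _ _ _ _ _)).symm
  · exact congrArg (· ≫ L.X₁.homologyπ j) ((cancel_mono (L.X₁.iCycles j)).1 (liftCycles_i _ _ _ _ _))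

variable (Ψ : A ⥤ B) [Ψ.Additive] [PreservesFiniteLimits Ψ]

/-- The comparison commutes with the connecting morphisms. -/
theorem homologyComparison_δ (L : ShortComplex (CochainComplex A ℕ))
    (σ : ∀ n, (L.map (HomologicalComplex.eval A _ n)).Splitting) (hL : L.ShortExact)
    (hΨL : (L.map (Ψ.mapHomologicalComplex (ComplexShape.up ℕ))).ShortExact) (i j : ℕ) (h : i + 1 = j) :
    RDer.homologyComparison Ψ L.X₃ i ≫ Ψ.map (hL.δ i j h) =
      hΨL.δ i j h ≫ RDer.homologyComparison Ψ L.X₁ j := by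
  have := hL.mono_f
  let x₁ : L.X₃.cycles i ⟶ L.X₁.X j := L.X₃.iCycles i ≫ (σ i).s ≫ L.X₂.d i j ≫ (σ j).r
  have hg : (L.X₃.iCycles i ≫ (σ i).s) ≫ L.g.f i = L.X₃.iCycles i := by
    rw [Category.assoc]
    exact (congrArg (L.X₃.iCycles i ≫ ·) (σ i).s_g).trans (Category.comp_id _)
  have hx₁ : x₁ ≫ L.f.f j = (L.X₃.iCycles i ≫ (σ i).s) ≫ L.X₂.d i j := by
    have e := (σ j).id
    have e' : (L.X₃.iCycles i ≫ (σ i).s ≫ L.X₂.d i j) ≫ L.g.f j = 0 := by
      rw [Category.assoc, Category.assoc, ← L.g.comm, ← Category.assoc, ← Category.assoc, hg, iCycles_d]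
    have e₂ := congrArg ((L.X₃.iCycles i ≫ (σ i).s ≫ L.X₂.d i j) ≫ ·) e
    refine Eq.trans ?_ (e₂.trans ((Category.comp_id _).trans (Category.assoc _ _ _).symm))
    refine Eq.trans ?_ (Preadditive.comp_add _ _ _ _ _ _).symm
    refine Eq.trans ?_ (congrArg (_ + ·) ((Category.assoc _ _ _).symm.trans
      ((congrArg (· ≫ (σ j).s) e').trans zero_comp)).symm)
    rw [add_zero]
    simp [x₁, Category.assoc]
  have hd : x₁ ≫ L.X₁.d j (j + 1) = 0 := by
    haveI : Mono (L.f.f (j + 1)) := inferInstance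
    rw [← cancel_mono (L.f.f (j + 1)), Category.assoc, ← L.f.comm, ← Category.assoc, hx₁,
      Category.assoc, d_comp_d, comp_zero, zero_comp]
  let y : L.X₃.cycles i ⟶ L.X₁.cycles j := L.X₁.liftCycles x₁ (j + 1) (CochainComplex.next ℕ j) hd
  have hy : y ≫ L.X₁.iCycles j = x₁ := liftCycles_i _ _ _ _ _
  have eL : L.X₃.homologyπ i ≫ hL.δ i j h = y ≫ L.X₁.homologyπ j := by
    have := homologyπ_δ hL i j h (𝟙 _) (L.X₃.iCycles i ≫ (σ i).s)
      (hg.trans (Category.id_comp _).symm) y (by rw [← Category.assoc, hy, hx₁])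
    rwa [Category.id_comp] at this
  let cC := RDer.cyclesComparison Ψ L.X₃ i
  have hd' : (cC ≫ Ψ.map x₁) ≫ ((Ψ.mapHomologicalComplex _).obj L.X₁).d j (j + 1) = 0 := by
    rw [Category.assoc]
    refine (congrArg (cC ≫ ·) ((Ψ.map_comp _ _).symm.trans ((congrArg Ψ.map hd).trans (Ψ.map_zero _ _)))).trans ?_
    exact comp_zero
  let y' := ((Ψ.mapHomologicalComplex _).obj L.X₁).liftCycles (cC ≫ Ψ.map x₁) (j + 1) (CochainComplex.next ℕ j) hd'
  have hy' : y' ≫ ((Ψ.mapHomologicalComplex _).obj L.X₁).iCycles j = cC ≫ Ψ.map x₁ := liftCycles_i _ _ _ _ _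
  have eP : ((Ψ.mapHomologicalComplex _).obj L.X₃).homologyπ i ≫ hΨL.δ i j h =
      y' ≫ ((Ψ.mapHomologicalComplex _).obj L.X₁).homologyπ j := by
    have := homologyπ_δ hΨL i j h (𝟙 _) (cC ≫ Ψ.map (L.X₃.iCycles i ≫ (σ i).s))
      (by
        rw [Category.assoc, Category.id_comp]
        refine (congrArg (cC ≫ ·) ((Ψ.map_comp _ _).symm.trans (congrArg Ψ.map hg))).trans ?_
        exact RDer.cyclesComparison_i _ _ _)
      y' (by
        refine (Category.assoc _ _ _).symm.trans ?_
        refine (congrArg (· ≫ _) hy').trans ?_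
        refine (Category.assoc _ _ _).trans (Eq.trans ?_ (Category.assoc _ _ _).symm)
        exact congrArg (cC ≫ ·) (((Ψ.map_comp _ _).symm.trans (congrArg Ψ.map hx₁)).trans (Ψ.map_comp _ _)))
    rwa [Category.id_comp] at this
  have eC : y' ≫ RDer.cyclesComparison Ψ L.X₁ j = cC ≫ Ψ.map y := by
    haveI : Mono (Ψ.map (L.X₁.iCycles j)) := CategoryTheory.preserves_mono_of_preservesLimit _ _
    rw [← cancel_mono (Ψ.map (L.X₁.iCycles j)), Category.assoc, Category.assoc, RDer.cyclesComparison_i,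
      ← Ψ.map_comp, hy]
    exact hy'
  refine (cancel_epi (((Ψ.mapHomologicalComplex _).obj L.X₃).homologyπ i)).1 ?_
  rw [RDer.homologyπ_homologyComparison_assoc, ← Ψ.map_comp, eL, Ψ.map_comp]
  erw [reassoc_of% eP]
  erw [RDer.homologyπ_homologyComparison]
  rw [← Category.assoc, ← Category.assoc, ← eC]

end EtBcQLib
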