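/-
A morphism of short complexes extends to a morphism from an injective resolution of the source into any degreewise
split short complex of complexes of injectives augmented by the target.
-/
import Groth.Agent.RDerLib.SESRes

set_option autoImplicit false
set_option linter.all false

universe v u

open CategoryTheory CategoryTheory.Limits Groth.Agent.RDerLib

namespace EtBcQLib

variable {C : Type u} [Category.{v} C] [Abelian C]

/-- The row in degree `n` of a short complex of complexes. -/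
noncomputable abbrev lrow (L : ShortComplex (CochainComplex C ℕ)) (n : ℕ) : ShortComplex C :=
  L.map (HomologicalComplex.eval C _ n)

/-- The differential between rows. -/
@[simps]
noncomputable def lDRow (L : ShortComplex (CochainComplex C ℕ)) (n : ℕ) : lrow L n ⟶ lrow L (n + 1) where
  τ₁ := L.X₁.d n (n + 1)
  τ₂ := L.X₂.d n (n + 1)
  τ₃ := L.X₃.d n (n + 1)
  comm₁₂ := (L.f.comm n (n + 1)).symm
  comm₂₃ := (L.g.comm n (n + 1)).symm

theorem lDRow_comp_lDRow (L : ShortComplex (CochainComplex C ℕ)) (n : ℕ) : lDRow L n ≫ lDRow L (n + 1) = 0 := by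
  ext
  · exact L.X₁.d_comp_d _ _ _
  · exact L.X₂.d_comp_d _ _ _
  · exact L.X₃.d_comp_d _ _ _

/-- A morphism of short complexes extends to their injective resolutions, with prescribed maps
on the outer terms. -/
theorem exists_middle {S S' : ShortComplex C} (T : RDer.SESRes S) (L : ShortComplex (CochainComplex C ℕ))
    [∀ n, Injective (L.X₁.X n)] (σ : ∀ n, (L.map (HomologicalComplex.eval C _ n)).Splitting)
    (η : S' ⟶ lrow L 0) (hη : η ≫ lDRow L 0 = 0)
    (φ : S ⟶ S') (a : T.I₁.cocomplex ⟶ L.X₁) (ha : T.I₁.ι.f 0 ≫ a.f 0 = φ.τ₁ ≫ η.τ₁)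
    (c : T.I₃.cocomplex ⟶ L.X₃) (hc : T.I₃.ι.f 0 ≫ c.f 0 = φ.τ₃ ≫ η.τ₃) :
    ∃ ψ : T.cx ⟶ L, ψ.τ₁ = a ∧ ψ.τ₃ = c := by
  have hS := shortExact_of_sesRes T
  haveI := hS.epi_g
  have hr : ∀ n, (row T n).ShortExact := row_shortExact T
  haveI hepi : ∀ n, Epi (row T n).g := fun n => (hr n).epi_g
  haveI hmono : ∀ n, Mono (lrow L n).f := fun n => (σ n).shortExact.mono_f
  haveI hinj : ∀ n, Injective (lrow L n).X₁ := fun n => (inferInstance : Injective (L.X₁.X n))
  let G : ∀ k, ((row T k).X₂ ⟶ (lrow L k).X₂) → Prop := fun k b =>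
    (row T k).f ≫ b = a.f k ≫ (lrow L k).f ∧ b ≫ (lrow L k).g = (row T k).g ≫ c.f k ∧
      ∀ (u : (row T k).X₃ ⟶ (lrow L (k + 1)).X₁) (b₀ : (row T (k + 1)).X₂ ⟶ (lrow L (k + 1)).X₂),
        (row T k).g ≫ u ≫ (lrow L (k + 1)).f =
          b ≫ (lDRow L k).τ₂ - (dRow T k).τ₂ ≫ b₀ →
        ∃ h : (row T (k + 1)).X₃ ⟶ (lrow L (k + 1)).X₁, (dRow T k).τ₃ ≫ h = u
  have base : ∃ b, G 0 b ∧ (aug T).τ₂ ≫ b = φ.τ₂ ≫ η.τ₂ := by
    obtain ⟨b, hb1, hb2, hb3⟩ := step hS.exact (rowSplitting T 0) (σ 0) (aug T) (a.f 0) (c.f 0)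
      (φ.τ₂ ≫ η.τ₂)
      (by
        rw [← φ.comm₁₂_assoc, ← η.comm₁₂]
        exact ((Category.assoc _ _ _).symm.trans (congrArg (· ≫ (lrow L 0).f) ha.symm)).trans (Category.assoc _ _ _))
      (by rw [Category.assoc, η.comm₂₃, φ.comm₂₃_assoc]; exact congrArg (S.g ≫ ·) hc.symm)
      (fun u b₀ _ =>
        haveI : Mono (aug T).τ₃ := inferInstanceAs (Mono (T.I₃.ι.f 0))
        ⟨Injective.factorThru u (aug T).τ₃, Injective.comp_factorThru _ _⟩)
    refine ⟨b, ⟨hb1, hb2, fun u b₀ hu => ?_⟩, hb3⟩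
    have hu0 : (aug T).τ₃ ≫ u = 0 := by
      rw [← cancel_epi S.g, ← cancel_mono (lrow L 1).f, ← reassoc_of% (aug T).comm₂₃,
        Category.assoc, Category.assoc, hu, Preadditive.comp_sub, reassoc_of% hb3,
        ← ShortComplex.comp_τ₂, hη, ShortComplex.zero_τ₂, comp_zero,
        ← ShortComplex.comp_τ₂_assoc, aug_comp_dRow, ShortComplex.zero_τ₂, zero_comp, sub_zero,
        comp_zero, zero_comp]
    exact ⟨T.I₃.exact₀.descToInjective u hu0, T.I₃.exact₀.comp_descToInjective u hu0⟩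
  have succ : ∀ k b, G k b → ∃ b', G (k + 1) b' ∧ (dRow T k).τ₂ ≫ b' = b ≫ (lDRow L k).τ₂ := by
    rintro k b ⟨hb1, hb2, hb3⟩
    obtain ⟨b', hb1', hb2', hb3'⟩ := step (hr k).exact (rowSplitting T (k + 1)) (σ (k + 1))
      (dRow T k) (a.f (k + 1)) (c.f (k + 1)) (b ≫ (lDRow L k).τ₂)
      (by
        refine (Category.assoc _ _ _).symm.trans ((congrArg (· ≫ (lDRow L k).τ₂) hb1).trans ?_)
        refine (Category.assoc _ _ _).trans ((congrArg (a.f k ≫ ·) (lDRow L k).comm₁₂.symm).trans ?_)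
        exact ((Category.assoc _ _ _).symm.trans (congrArg (· ≫ (lrow L (k + 1)).f) (a.comm k (k + 1)))).trans
          (Category.assoc _ _ _))
      (by
        refine (Category.assoc _ _ _).trans ((congrArg (b ≫ ·) (lDRow L k).comm₂₃).trans ?_)
        refine (Category.assoc _ _ _).symm.trans ((congrArg (· ≫ (lDRow L k).τ₃) hb2).trans ?_)
        exact (Category.assoc _ _ _).trans (congrArg ((row T k).g ≫ ·) (c.comm k (k + 1))))
      hb3
    refine ⟨b', ⟨hb1', hb2', fun u b₀ hu => ?_⟩, hb3'⟩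
    have hu0 : (dRow T k).τ₃ ≫ u = 0 := by
      rw [← cancel_epi (row T k).g, ← cancel_mono (lrow L (k + 1 + 1)).f,
        ← reassoc_of% (dRow T k).comm₂₃, Category.assoc, Category.assoc, hu, Preadditive.comp_sub,
        reassoc_of% hb3', ← ShortComplex.comp_τ₂, lDRow_comp_lDRow, ShortComplex.zero_τ₂, comp_zero,
        ← ShortComplex.comp_τ₂_assoc, dRow_comp_dRow, ShortComplex.zero_τ₂, zero_comp, sub_zero,
        comp_zero, zero_comp]
    exact ⟨(T.I₃.exact_succ k).descToInjective u hu0,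
      (T.I₃.exact_succ k).comp_descToInjective u hu0⟩
  choose nx hnx using succ
  let b : ∀ k, {b : (row T k).X₂ ⟶ (lrow L k).X₂ // G k b} := fun k =>
    Nat.rec ⟨base.choose, base.choose_spec.1⟩ (fun n p => ⟨nx n p.1 p.2, (hnx n p.1 p.2).1⟩) k
  let β : T.I₂.cocomplex ⟶ L.X₂ :=
    { f := fun k => (b k).1
      comm' := fun i j hij => by
        obtain rfl : i + 1 = j := hij
        exact ((hnx i (b i).1 (b i).2).2).symm }
  exact ⟨ShortComplex.homMk a β c (HomologicalComplex.hom_ext _ _ fun k => (b k).2.1.symm)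
    (HomologicalComplex.hom_ext _ _ fun k => (b k).2.2.1), rfl, rfl⟩

end EtBcQLib
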