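/-
The base change morphism of right derived functors attached to a morphism `Γ ⋙ Φ ⟶ Φ' ⋙ Ψ`: computed by any lift
to injective resolutions; it is natural and commutes with the connecting morphisms.
-/
import Groth.Agent.EtBcQLib.Delta
import Groth.Agent.EtBcQLib.Middle

set_option autoImplicit false
set_option linter.all false
set_option backward.isDefEq.respectTransparency false

universe v₁ v₂ v₃ v₄ u₁ u₂ u₃ u₄

open CategoryTheory CategoryTheory.Limits HomologicalComplex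

noncomputable section

namespace EtBcQLib

variable {A : Type u₁} [Category.{v₁} A] [Abelian A] [HasInjectiveResolutions A]
  {A' : Type u₂} [Category.{v₂} A'] [Abelian A'] [HasInjectiveResolutions A']
  {B' : Type u₃} [Category.{v₃} B'] [Abelian B']
  {B : Type u₄} [Category.{v₄} B] [Abelian B]
  (Φ : A ⥤ B) [Φ.Additive] (Γ : A' ⥤ A) [Γ.Additive] [Γ.PreservesInjectiveObjects]
  (Φ' : A' ⥤ B') [Φ'.Additive] (Ψ : B' ⥤ B) [Ψ.Additive] [PreservesFiniteLimits Ψ]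
  (α : Γ ⋙ Φ ⟶ Φ' ⋙ Ψ) (q : ℕ)

/-- The base change morphism along `u : X ⟶ Γ Y`. -/
def bcu {X : A} {Y : A'} (u : X ⟶ Γ.obj Y) :
    (Φ.rightDerived q).obj X ⟶ Ψ.obj ((Φ'.rightDerived q).obj Y) :=
  (Φ.rightDerived q).map u ≫ RDer.edgeIn Γ Φ q Y ≫ (NatTrans.rightDerived α q).app Y ≫
    RDer.edgeOut Φ' Ψ q Y

/-- The map on complexes. -/
def cxMap {I : CochainComplex A ℕ} {J : CochainComplex A' ℕ}
    (θ : I ⟶ (Γ.mapHomologicalComplex _).obj J) :
    (Φ.mapHomologicalComplex (ComplexShape.up ℕ)).obj I ⟶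
      (Ψ.mapHomologicalComplex _).obj ((Φ'.mapHomologicalComplex _).obj J) :=
  (Φ.mapHomologicalComplex _).map θ ≫ (NatTrans.mapHomologicalComplex α _).app J

/-- The map on homology. -/
def bcH {I : CochainComplex A ℕ} {J : CochainComplex A' ℕ}
    (θ : I ⟶ (Γ.mapHomologicalComplex _).obj J) :
    ((Φ.mapHomologicalComplex _).obj I).homology q ⟶
      Ψ.obj (((Φ'.mapHomologicalComplex _).obj J).homology q) :=
  homologyMap (cxMap Φ Γ Φ' Ψ α θ) q ≫ RDer.homologyComparison Ψ _ q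

omit [HasInjectiveResolutions A] [HasInjectiveResolutions A'] [Γ.PreservesInjectiveObjects] in
theorem bcH_congr {I : CochainComplex A ℕ} {J : CochainComplex A' ℕ}
    {θ θ' : I ⟶ (Γ.mapHomologicalComplex _).obj J} (h : Homotopy θ θ') :
    bcH Φ Γ Φ' Ψ α q θ = bcH Φ Γ Φ' Ψ α q θ' := by
  have e := (Φ.mapHomotopy h).homologyMap_eq q
  simp only [bcH, cxMap, homologyMap_comp]
  erw [e]

omit [HasInjectiveResolutions A] [HasInjectiveResolutions A'] [Γ.PreservesInjectiveObjects] in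
theorem bcH_natural {I I' : CochainComplex A ℕ} {J J' : CochainComplex A' ℕ}
    (θ : I ⟶ (Γ.mapHomologicalComplex _).obj J) (θ' : I' ⟶ (Γ.mapHomologicalComplex _).obj J')
    (a : I ⟶ I') (b : J ⟶ J') (h : θ ≫ (Γ.mapHomologicalComplex _).map b = a ≫ θ') :
    bcH Φ Γ Φ' Ψ α q θ ≫ Ψ.map (homologyMap ((Φ'.mapHomologicalComplex _).map b) q) =
      homologyMap ((Φ.mapHomologicalComplex _).map a) q ≫ bcH Φ Γ Φ' Ψ α q θ' := by
  simp only [bcH, Category.assoc]
  rw [homologyComparison_naturality, ← Category.assoc, ← Category.assoc, ← homologyMap_comp, ← homologyMap_comp]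
  refine congrArg (fun k => homologyMap k q ≫ RDer.homologyComparison Ψ _ q) ?_
  simp only [cxMap, Category.assoc]
  have e := (NatTrans.mapHomologicalComplex α (ComplexShape.up ℕ)).naturality b
  refine (congrArg ((Φ.mapHomologicalComplex _).map θ ≫ ·) e.symm).trans ?_
  refine (Category.assoc _ _ _).symm.trans ?_
  refine Eq.trans ?_ (Category.assoc _ _ _)
  refine congrArg (· ≫ (NatTrans.mapHomologicalComplex α _).app J') ?_
  exact ((Φ.mapHomologicalComplex (ComplexShape.up ℕ)).map_comp θ ((Γ.mapHomologicalComplex _).map b)).symm.trans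
    ((congrArg (Φ.mapHomologicalComplex (ComplexShape.up ℕ)).map h).trans
      ((Φ.mapHomologicalComplex (ComplexShape.up ℕ)).map_comp a θ'))

/-- The base change morphism is computed by some lift to chosen resolutions. -/
theorem exists_bcu_eq {X : A} {Y : A'} (u : X ⟶ Γ.obj Y) :
    ∃ θ : (injectiveResolution X).cocomplex ⟶ (Γ.mapHomologicalComplex _).obj (injectiveResolution Y).cocomplex,
      (injectiveResolution X).ι.f 0 ≫ θ.f 0 = u ≫ Γ.map ((injectiveResolution Y).ι.f 0) ∧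
      bcu Φ Γ Φ' Ψ α q u = ((injectiveResolution X).isoRightDerivedObj Φ q).hom ≫
        bcH Φ Γ Φ' Ψ α q θ ≫ Ψ.map ((injectiveResolution Y).isoRightDerivedObj Φ' q).inv := by
  let I := injectiveResolution X
  let J := injectiveResolution Y
  let K := injectiveResolution (Γ.obj Y)
  let φ : I.cocomplex ⟶ K.cocomplex := InjectiveResolution.desc u K I
  have hφ : I.ι.f 0 ≫ φ.f 0 = u ≫ K.ι.f 0 := InjectiveResolution.desc_commutes_zero u K I
  let d : K.cocomplex ⟶ (Γ.mapHomologicalComplex _).obj J.cocomplex :=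
    RDer.descToInjectives (𝟙 _) K.cocomplex K.ι _ (RDer.mapAug Γ J.ι)
  have hd : K.ι.f 0 ≫ d.f 0 = Γ.map (J.ι.f 0) := by
    refine (RDer.ι_descToInjectives_f_zero (𝟙 _) K.cocomplex K.ι _ _).trans ?_
    simp [HomologicalComplex.singleMapHomologicalComplex_inv_app_self]
  refine ⟨φ ≫ d, ?_, ?_⟩
  · rw [HomologicalComplex.comp_f]
    refine ((Category.assoc _ _ _).symm.trans (congrArg (· ≫ d.f 0) hφ)).trans ?_
    exact (Category.assoc _ _ _).trans (congrArg (u ≫ ·) hd)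
  · have e1 : (Φ.rightDerived q).map u ≫ (K.isoRightDerivedObj Φ q).hom =
        (I.isoRightDerivedObj Φ q).hom ≫ homologyMap ((Φ.mapHomologicalComplex _).map φ) q :=
      InjectiveResolution.isoRightDerivedObj_hom_naturality u I K φ hφ Φ q
    have e2 : (NatTrans.rightDerived α q).app Y =
        (J.isoRightDerivedObj (Γ ⋙ Φ) q).hom ≫
          homologyMap ((NatTrans.mapHomologicalComplex α _).app J.cocomplex) q ≫
            (J.isoRightDerivedObj (Φ' ⋙ Ψ) q).inv :=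
      InjectiveResolution.rightDerived_app_eq α J q
    have e3 : homologyMap (cxMap Φ Γ Φ' Ψ α (φ ≫ d)) q =
        homologyMap ((Φ.mapHomologicalComplex _).map φ) q ≫
          homologyMap ((Φ.mapHomologicalComplex _).map d) q ≫
            homologyMap ((NatTrans.mapHomologicalComplex α _).app J.cocomplex :) q := by
      rw [← homologyMap_comp, ← homologyMap_comp, cxMap, Functor.map_comp, Category.assoc]
    rw [bcH, e3]
    show (Φ.rightDerived q).map u ≫ RDer.edgeIn Γ Φ q Y ≫ (NatTrans.rightDerived α q).app Y ≫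
      RDer.edgeOut Φ' Ψ q Y = _
    rw [e2]
    simp only [RDer.edgeIn, RDer.edgeOut, Category.assoc, Iso.inv_hom_id_assoc]
    erw [Iso.inv_hom_id_assoc, Iso.inv_hom_id_assoc]
    erw [reassoc_of% e1]
    rfl

/-- The base change morphism is computed by any lift to any injective resolutions. -/
theorem bcu_comp {X : A} {Y : A'} (u : X ⟶ Γ.obj Y) (I : InjectiveResolution X) (J : InjectiveResolution Y)
    (θ : I.cocomplex ⟶ (Γ.mapHomologicalComplex _).obj J.cocomplex)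
    (hθ : I.ι.f 0 ≫ θ.f 0 = u ≫ Γ.map (J.ι.f 0)) :
    bcu Φ Γ Φ' Ψ α q u ≫ Ψ.map (J.isoRightDerivedObj Φ' q).hom =
      (I.isoRightDerivedObj Φ q).hom ≫ bcH Φ Γ Φ' Ψ α q θ := by
  obtain ⟨θ₀, hθ₀, e⟩ := exists_bcu_eq Φ Γ Φ' Ψ α q u
  let I₀ := injectiveResolution X
  let J₀ := injectiveResolution Y
  let a : I₀.cocomplex ⟶ I.cocomplex := InjectiveResolution.desc (𝟙 X) I I₀
  have ha : I₀.ι.f 0 ≫ a.f 0 = 𝟙 X ≫ I.ι.f 0 := InjectiveResolution.desc_commutes_zero _ _ _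
  let b : J₀.cocomplex ⟶ J.cocomplex := InjectiveResolution.desc (𝟙 Y) J J₀
  have hb : J₀.ι.f 0 ≫ b.f 0 = 𝟙 Y ≫ J.ι.f 0 := InjectiveResolution.desc_commutes_zero _ _ _
  have na := InjectiveResolution.isoRightDerivedObj_hom_naturality (𝟙 X) I₀ I a ha Φ q
  have nb := InjectiveResolution.isoRightDerivedObj_hom_naturality (𝟙 Y) J₀ J b hb Φ' q
  rw [CategoryTheory.Functor.map_id, Category.id_comp] at na nb
  simp only [Functor.comp_map, homologyFunctor_map] at na nb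
  obtain ⟨H⟩ := nonempty_homotopy I₀ ((Γ.mapHomologicalComplex _).obj J.cocomplex)
    (θ₀ ≫ (Γ.mapHomologicalComplex _).map b) (a ≫ θ) (by
      rw [HomologicalComplex.comp_f, HomologicalComplex.comp_f]
      refine ((Category.assoc _ _ _).symm.trans (congrArg (· ≫ Γ.map (b.f 0)) hθ₀)).trans ?_
      refine Eq.trans ?_ ((congrArg (· ≫ θ.f 0) ha).symm.trans (Category.assoc _ _ _))
      rw [Category.id_comp, hθ]
      refine (Category.assoc _ _ _).trans ?_
      exact congrArg (u ≫ ·) ((Γ.map_comp _ _).symm.trans (congrArg Γ.map (hb.trans (Category.id_comp _)))))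
  have e₁ := bcH_natural Φ Γ Φ' Ψ α q θ₀ (θ₀ ≫ (Γ.mapHomologicalComplex _).map b) (𝟙 _) b
    (Category.id_comp _).symm
  have e₂ := bcH_congr Φ Γ Φ' Ψ α q H
  have e₃ := bcH_natural Φ Γ Φ' Ψ α q (a ≫ θ) θ a (𝟙 _)
    (by rw [CategoryTheory.Functor.map_id, Category.comp_id])
  simp only [CategoryTheory.Functor.map_id, homologyMap_id, Category.id_comp, Category.comp_id] at e₁ e₃
  rw [e, na, Category.assoc, Category.assoc, ← Ψ.map_comp, nb, Iso.inv_hom_id_assoc, e₁, e₂]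
  refine Eq.trans ?_ (Category.assoc _ _ _).symm
  exact congrArg ((I₀.isoRightDerivedObj Φ q).hom ≫ ·) e₃

/-- The base change morphism is natural. -/
theorem bcu_natural {X X' : A} {Y Y' : A'} (u : X ⟶ Γ.obj Y) (u' : X' ⟶ Γ.obj Y') (a : X ⟶ X') (b : Y ⟶ Y')
    (h : u ≫ Γ.map b = a ≫ u') :
    (Φ.rightDerived q).map a ≫ bcu Φ Γ Φ' Ψ α q u' =
      bcu Φ Γ Φ' Ψ α q u ≫ Ψ.map ((Φ'.rightDerived q).map b) := by
  obtain ⟨θ, hθ, -⟩ := exists_bcu_eq Φ Γ Φ' Ψ α q u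
  obtain ⟨θ', hθ', -⟩ := exists_bcu_eq Φ Γ Φ' Ψ α q u'
  let I := injectiveResolution X
  let I' := injectiveResolution X'
  let J := injectiveResolution Y
  let J' := injectiveResolution Y'
  let a' : I.cocomplex ⟶ I'.cocomplex := InjectiveResolution.desc a I' I
  have ha : I.ι.f 0 ≫ a'.f 0 = a ≫ I'.ι.f 0 := InjectiveResolution.desc_commutes_zero _ _ _
  let b' : J.cocomplex ⟶ J'.cocomplex := InjectiveResolution.desc b J' J
  have hb : J.ι.f 0 ≫ b'.f 0 = b ≫ J'.ι.f 0 := InjectiveResolution.desc_commutes_zero _ _ _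
  have na := InjectiveResolution.isoRightDerivedObj_hom_naturality a I I' a' ha Φ q
  have nb := InjectiveResolution.isoRightDerivedObj_hom_naturality b J J' b' hb Φ' q
  simp only [Functor.comp_map, homologyFunctor_map] at na nb
  obtain ⟨H⟩ := nonempty_homotopy I ((Γ.mapHomologicalComplex _).obj J'.cocomplex)
    (θ ≫ (Γ.mapHomologicalComplex _).map b') (a' ≫ θ') (by
      rw [HomologicalComplex.comp_f, HomologicalComplex.comp_f]
      refine ((Category.assoc _ _ _).symm.trans (congrArg (· ≫ Γ.map (b'.f 0)) hθ)).trans ?_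
      refine Eq.trans ?_ ((congrArg (· ≫ θ'.f 0) ha).symm.trans (Category.assoc _ _ _))
      refine (Category.assoc _ _ _).trans (Eq.trans ?_ (Category.assoc _ _ _).symm)
      refine (congrArg (u ≫ ·) (((Γ.map_comp _ _).symm.trans (congrArg Γ.map hb)).trans (Γ.map_comp _ _))).trans ?_
      refine ((Category.assoc _ _ _).symm.trans (congrArg (· ≫ Γ.map (J'.ι.f 0)) h)).trans ?_
      exact (Category.assoc _ _ _).trans (congrArg (a ≫ ·) hθ'.symm))
  have e₁ := bcH_natural Φ Γ Φ' Ψ α q θ (θ ≫ (Γ.mapHomologicalComplex _).map b') (𝟙 _) b'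
    (Category.id_comp _).symm
  have e₂ := bcH_congr Φ Γ Φ' Ψ α q H
  have e₃ := bcH_natural Φ Γ Φ' Ψ α q (a' ≫ θ') θ' a' (𝟙 _)
    (by rw [CategoryTheory.Functor.map_id, Category.comp_id])
  simp only [CategoryTheory.Functor.map_id, homologyMap_id, Category.id_comp, Category.comp_id] at e₁ e₃
  rw [← cancel_mono (Ψ.map (J'.isoRightDerivedObj Φ' q).hom), Category.assoc, Category.assoc,
    bcu_comp Φ Γ Φ' Ψ α q u' I' J' θ' hθ', ← Ψ.map_comp, nb, Ψ.map_comp,
    ← Category.assoc (bcu Φ Γ Φ' Ψ α q u), bcu_comp Φ Γ Φ' Ψ α q u I J θ hθ]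
  refine ((Category.assoc _ _ _).symm.trans ((congrArg (· ≫ bcH Φ Γ Φ' Ψ α q θ') na).trans (Category.assoc _ _ _))).trans ?_
  refine Eq.trans ?_ (Category.assoc _ _ _).symm
  exact congrArg ((I.isoRightDerivedObj Φ q).hom ≫ ·) (e₁.trans (e₂.trans e₃)).symm

omit [HasInjectiveResolutions A] [HasInjectiveResolutions A'] [Γ.PreservesInjectiveObjects]
  [PreservesFiniteLimits Ψ] in
theorem cxMap_natural {S : ShortComplex (CochainComplex A ℕ)} {S' : ShortComplex (CochainComplex A' ℕ)}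
    (ψ : S ⟶ S'.map (Γ.mapHomologicalComplex _)) :
    ∃ Ξ : S.map (Φ.mapHomologicalComplex (ComplexShape.up ℕ)) ⟶
      (S'.map (Φ'.mapHomologicalComplex _)).map (Ψ.mapHomologicalComplex _),
      Ξ.τ₁ = cxMap Φ Γ Φ' Ψ α ψ.τ₁ ∧ Ξ.τ₃ = cxMap Φ Γ Φ' Ψ α ψ.τ₃ :=
  ⟨(Φ.mapHomologicalComplex _).mapShortComplex.map ψ ≫
      S'.mapNatTrans (NatTrans.mapHomologicalComplex α (ComplexShape.up ℕ)), rfl, rfl⟩

/-- The base change morphism commutes with the connecting morphisms. -/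
theorem bcu_delta {S : ShortComplex A} {S' : ShortComplex A'} (T : RDer.SESRes S) (T' : RDer.SESRes S')
    (φ : S ⟶ S'.map Γ) (n₀ n₁ : ℕ) (h : n₀ + 1 = n₁) :
    T.delta Φ n₀ n₁ h ≫ bcu Φ Γ Φ' Ψ α n₁ (X := S.X₁) (Y := S'.X₁) φ.τ₁ =
      bcu Φ Γ Φ' Ψ α n₀ (X := S.X₃) (Y := S'.X₃) φ.τ₃ ≫ Ψ.map (T'.delta Φ' n₀ n₁ h) := by
  let L := T'.cx.map (Γ.mapHomologicalComplex (ComplexShape.up ℕ))
  let σ : ∀ n, (L.map (HomologicalComplex.eval A _ n)).Splitting := fun n => (T'.splitting n).map Γ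
  haveI : ∀ n, Injective (L.X₁.X n) := fun n => Γ.injective_obj (T'.I₁.cocomplex.X n)
  let η : S'.map Γ ⟶ lrow L 0 :=
    { τ₁ := Γ.map (T'.I₁.ι.f 0)
      τ₂ := Γ.map (T'.I₂.ι.f 0)
      τ₃ := Γ.map (T'.I₃.ι.f 0)
      comm₁₂ := (Γ.map_comp _ _).symm.trans
        ((congrArg Γ.map (Groth.Agent.RDerLib.aug T').comm₁₂).trans (Γ.map_comp _ _))
      comm₂₃ := (Γ.map_comp _ _).symm.trans
        ((congrArg Γ.map (Groth.Agent.RDerLib.aug T').comm₂₃).trans (Γ.map_comp _ _)) }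
  have hη : η ≫ lDRow L 0 = 0 := by
    ext
    · exact (Γ.map_comp _ _).symm.trans ((congrArg Γ.map T'.I₁.ι_f_zero_comp_complex_d).trans (Γ.map_zero _ _))
    · exact (Γ.map_comp _ _).symm.trans ((congrArg Γ.map T'.I₂.ι_f_zero_comp_complex_d).trans (Γ.map_zero _ _))
    · exact (Γ.map_comp _ _).symm.trans ((congrArg Γ.map T'.I₃.ι_f_zero_comp_complex_d).trans (Γ.map_zero _ _))
  let a : T.I₁.cocomplex ⟶ L.X₁ :=
    RDer.descToInjectives φ.τ₁ T.I₁.cocomplex T.I₁.ι L.X₁ (RDer.mapAug Γ T'.I₁.ι)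
  have ha : T.I₁.ι.f 0 ≫ a.f 0 = φ.τ₁ ≫ η.τ₁ := by
    refine (RDer.ι_descToInjectives_f_zero φ.τ₁ T.I₁.cocomplex T.I₁.ι L.X₁ _).trans ?_
    simp [HomologicalComplex.singleMapHomologicalComplex_inv_app_self, η]
    exact congrArg (φ.τ₁ ≫ ·) (Category.id_comp _)
  haveI : ∀ n, Injective (L.X₃.X n) := fun n => Γ.injective_obj (T'.I₃.cocomplex.X n)
  let c : T.I₃.cocomplex ⟶ L.X₃ :=
    RDer.descToInjectives φ.τ₃ T.I₃.cocomplex T.I₃.ι L.X₃ (RDer.mapAug Γ T'.I₃.ι)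
  have hc : T.I₃.ι.f 0 ≫ c.f 0 = φ.τ₃ ≫ η.τ₃ := by
    refine (RDer.ι_descToInjectives_f_zero φ.τ₃ T.I₃.cocomplex T.I₃.ι L.X₃ _).trans ?_
    simp [HomologicalComplex.singleMapHomologicalComplex_inv_app_self, η]
    exact congrArg (φ.τ₃ ≫ ·) (Category.id_comp _)
  obtain ⟨ψ, hψ₁, hψ₃⟩ := exists_middle T L σ η hη φ a ha c hc
  obtain ⟨Ξ, hΞ₁, hΞ₃⟩ := cxMap_natural Φ Γ Φ' Ψ α (S' := T'.cx) ψ
  let σ' : ∀ n, ((T'.cx.map (Φ'.mapHomologicalComplex (ComplexShape.up ℕ))).map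
      (HomologicalComplex.eval B' _ n)).Splitting := fun n => (T'.splitting n).map Φ'
  have hP := map_shortExact (T'.cx.map (Φ'.mapHomologicalComplex (ComplexShape.up ℕ))) σ' Ψ
  have hδ := HomologicalComplex.HomologySequence.δ_naturality Ξ (T.map_shortExact Φ) hP n₀ n₁ h
  have hC := homologyComparison_δ Ψ _ σ' (T'.map_shortExact Φ') hP n₀ n₁ h
  rw [hΞ₁, hΞ₃, hψ₁, hψ₃] at hδ
  rw [← cancel_mono (Ψ.map (T'.I₁.isoRightDerivedObj Φ' n₁).hom), Category.assoc, Category.assoc,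
    bcu_comp Φ Γ Φ' Ψ α n₁ φ.τ₁ T.I₁ T'.I₁ a ha, ← Ψ.map_comp,
    T'.delta_comp_isoRightDerivedObj_hom Φ' n₀ n₁ h, Ψ.map_comp]
  erw [T.delta_comp_isoRightDerivedObj_hom_assoc Φ n₀ n₁ h]
  erw [reassoc_of% (bcu_comp Φ Γ Φ' Ψ α n₀ φ.τ₃ T.I₃ T'.I₃ c hc)]
  simp only [bcH, Category.assoc]
  refine congrArg ((T.I₃.isoRightDerivedObj Φ n₀).hom ≫ ·) ?_
  refine Eq.trans ?_ (congrArg (homologyMap (cxMap Φ Γ Φ' Ψ α c) n₀ ≫ ·) hC.symm)
  exact ((Category.assoc _ _ _).symm.trans (congrArg (· ≫ RDer.homologyComparison Ψ _ n₁) hδ)).trans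
    (Category.assoc _ _ _)

end EtBcQLib
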