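/-
The base change morphism in degree `q` for direct images of étale sheaves: naturality and compatibility with the
connecting morphisms.
-/
import Groth.Agent.EtBcQLib.Bc
import Groth.Agent.EtCechInjLib.Delta
import Groth.Prelude.Def_EtBC2
import Groth.Prelude.Def_EtCore
import Groth.Agent.EtSliceLib.Hpull

set_option autoImplicit false
set_option linter.all false
set_option backward.isDefEq.respectTransparency false
set_option maxHeartbeats 1000000

universe u

open CategoryTheory CategoryTheory.Limits AlgebraicGeometry HomologicalComplex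

noncomputable section

namespace EtBcQLib

variable {X S X' S' : Scheme.{u}} (f : X ⟶ S) (g : S' ⟶ S) (f' : X' ⟶ S') (g' : X' ⟶ X)
  (w : g' ≫ f = f' ≫ g) [PreservesFiniteLimits (EtCoh.pull g')]

/-- The composition isomorphism of the square. -/
abbrev sqα : EtCoh.push g' ⋙ EtCoh.push f ⟶ EtCoh.push f' ⋙ EtCoh.push g :=
  (EtCoh.pushComp f g' ≪≫ EtCoh.pushCongr w ≪≫ (EtCoh.pushComp g f').symm).hom

theorem bcQAdj_eq (q : ℕ) (F : EtCoh.Ab X) :
    EtBC.bcQAdj f g f' g' w q F = bcu (EtCoh.push f) (EtCoh.push g') (EtCoh.push f') (EtCoh.push g)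
      (sqα f g f' g' w) q ((EtCoh.pullPushAdj g').unit.app F) := rfl

/-- The base change morphism as a natural transformation. -/
def bcNat (q : ℕ) : EtCoh.Rpush f q ⋙ EtCoh.pull g ⟶ EtCoh.pull g' ⋙ EtCoh.Rpush f' q where
  app F := EtBC.bcQ f g f' g' w q F
  naturality F F' φ := by
    show (EtCoh.pull g).map ((EtCoh.Rpush f q).map φ) ≫
        ((EtCoh.pullPushAdj g).homEquiv _ _).symm (EtBC.bcQAdj f g f' g' w q F') =
      ((EtCoh.pullPushAdj g).homEquiv _ _).symm (EtBC.bcQAdj f g f' g' w q F) ≫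
        (EtCoh.Rpush f' q).map ((EtCoh.pull g').map φ)
    rw [← Adjunction.homEquiv_naturality_left_symm, ← Adjunction.homEquiv_naturality_right_symm, bcQAdj_eq, bcQAdj_eq]
    refine congrArg _ ?_
    exact bcu_natural _ _ _ _ _ q _ _ φ ((EtCoh.pull g').map φ)
      ((EtCoh.pullPushAdj g').unit.naturality φ).symm

theorem bcNat_app (q : ℕ) (F : EtCoh.Ab X) : (bcNat f g f' g' w q).app F = EtBC.bcQ f g f' g' w q F := rfl

/-- The base change morphism commutes with the connecting morphisms. -/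
theorem bcNat_delta {T : ShortComplex (EtCoh.Ab X)} (hT : T.ShortExact)
    (hT' : (T.map (EtCoh.pull g')).ShortExact) (i : ℕ) :
    (EtCoh.pull g).map ((EtCechInjLib.derDelta (EtCoh.push f)).δ hT i) ≫ EtBC.bcQ f g f' g' w (i + 1) T.X₁ =
      EtBC.bcQ f g f' g' w i T.X₃ ≫ (EtCechInjLib.derDelta (EtCoh.push f')).δ hT' i := by
  let R := Groth.Agent.RDerLib.res hT
  let R' := Groth.Agent.RDerLib.res hT'
  let φ : T ⟶ (T.map (EtCoh.pull g')).map (EtCoh.push g') :=
    ShortComplex.homMk ((EtCoh.pullPushAdj g').unit.app T.X₁) ((EtCoh.pullPushAdj g').unit.app T.X₂)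
      ((EtCoh.pullPushAdj g').unit.app T.X₃) ((EtCoh.pullPushAdj g').unit.naturality T.f).symm
      ((EtCoh.pullPushAdj g').unit.naturality T.g).symm
  have e := bcu_delta (EtCoh.push f) (EtCoh.push g') (EtCoh.push f') (EtCoh.push g) (sqα f g f' g' w) R R' φ
    i (i + 1) rfl
  rw [show (EtCechInjLib.derDelta (EtCoh.push f)).δ hT i = R.delta (EtCoh.push f) i (i + 1) rfl from
      (Groth.Agent.RDerLib.derivedLES (EtCoh.push f)).δ_eq _ hT R i (i + 1) rfl,
    show (EtCechInjLib.derDelta (EtCoh.push f')).δ hT' i = R'.delta (EtCoh.push f') i (i + 1) rfl from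
      (Groth.Agent.RDerLib.derivedLES (EtCoh.push f')).δ_eq _ hT' R' i (i + 1) rfl]
  show _ ≫ ((EtCoh.pullPushAdj g).homEquiv _ _).symm (EtBC.bcQAdj f g f' g' w (i + 1) T.X₁) =
    ((EtCoh.pullPushAdj g).homEquiv _ _).symm (EtBC.bcQAdj f g f' g' w i T.X₃) ≫ _
  refine (Adjunction.homEquiv_naturality_left_symm _ _ _).symm.trans (Eq.trans ?_
    (Adjunction.homEquiv_naturality_right_symm _ _ _))
  exact congrArg _ e

end EtBcQLib
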