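/-
Families of maps between delta functors which commute with the connecting maps.
-/
import Groth.Agent.LocCohLib.Delta
import Groth.Agent.FormalPunctLib.ExtDelta

set_option autoImplicit false
set_option linter.all false

universe v v' v'' u u' u''

open CategoryTheory CategoryTheory.Limits

noncomputable section

namespace EtBcQLib

open LocCohLib LocCohLib.DeltaFun

variable {C : Type u} [Category.{v} C] [Abelian C] {D : Type u'} [Category.{v'} D] [Abelian D]
  {T T' : DeltaFun C D}

/-- A family of maps commutes with the connecting maps. -/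
def Comm (a : ∀ i, T.F i ⟶ T'.F i) : Prop :=
  ∀ {S : ShortComplex C} (hS : S.ShortExact) (i : ℕ),
    T.δ hS i ≫ (a (i + 1)).app S.X₁ = (a i).app S.X₃ ≫ T'.δ hS i

variable [EnoughInjectives C]

/-- The extension by one degree commutes with all connecting maps. -/
theorem δ_succHom (h : T.Effaceable) (i : ℕ) (α : T.F i ⟶ T'.F i) {S : ShortComplex C} (hS : S.ShortExact) :
    T.δ hS i ≫ (succHom h i α).app S.X₁ = α.app S.X₃ ≫ T'.δ hS i := by
  haveI := hS.mono_f
  haveI := hS.epi_g
  let e : S.X₂ ⟶ Injective.under S.X₁ := Injective.factorThru (Injective.ι S.X₁) S.f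
  have he : S.f ≫ e = Injective.ι S.X₁ := Injective.comp_factorThru _ _
  have hd : S.f ≫ e ≫ cokernel.π (Injective.ι S.X₁) = 0 := by
    rw [← Category.assoc, he, cokernel.condition]
  let c : S.X₃ ⟶ cokernel (Injective.ι S.X₁) := hS.exact.desc (e ≫ cokernel.π _) hd
  have hc : S.g ≫ c = e ≫ cokernel.π _ := hS.exact.g_desc _ hd
  let φ : S ⟶ under C S.X₁ := ShortComplex.homMk (𝟙 _) e c ((Category.id_comp _).trans he.symm) hc.symm
  have n := T.δ_natural hS (under_shortExact S.X₁) φ i
  have n' := T'.δ_natural hS (under_shortExact S.X₁) φ i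
  have e1 : (T.F (i + 1)).map φ.τ₁ = 𝟙 _ := CategoryTheory.Functor.map_id _ _
  have e1' : (T'.F (i + 1)).map φ.τ₁ = 𝟙 _ := CategoryTheory.Functor.map_id _ _
  have m := (Category.comp_id _).symm.trans ((congrArg (T.δ hS i ≫ ·) e1.symm).trans n)
  have m' := (Category.comp_id _).symm.trans ((congrArg (T'.δ hS i ≫ ·) e1'.symm).trans n')
  refine (congrArg (· ≫ (succHom h i α).app S.X₁) m).trans (Eq.trans ?_ (congrArg (α.app S.X₃ ≫ ·) m').symm)
  refine (Category.assoc _ _ _).trans ((congrArg ((T.F i).map φ.τ₃ ≫ ·) (δ_succApp h i α S.X₁)).trans ?_)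
  rw [← Category.assoc, α.naturality φ.τ₃, Category.assoc]
  rfl

/-- The comparison isomorphism commutes with the connecting maps. -/
theorem comm_isoOfZero (h : T.Effaceable) (h' : T'.Effaceable) (α : T.F 0 ≅ T'.F 0) :
    Comm (fun i => (isoOfZero h h' α i).hom) :=
  fun {_} hS i => δ_succHom h i (isoOfZero h h' α i).hom hS

/-- Families commuting with the connecting maps out of an effaceable functor are determined by degree zero. -/
theorem eq_of_zero (h : T.Effaceable) (a b : ∀ i, T.F i ⟶ T'.F i) (ha : Comm a) (hb : Comm b)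
    (h0 : a 0 = b 0) : ∀ i, a i = b i
  | 0 => h0
  | i + 1 => by
    ext M
    apply Cofork.IsColimit.hom_ext (succIsColimit h M i)
    show T.δ (under_shortExact M) i ≫ (a (i + 1)).app (under C M).X₁ =
      T.δ (under_shortExact M) i ≫ (b (i + 1)).app (under C M).X₁
    rw [ha, hb, eq_of_zero h a b ha hb h0 i]

omit [EnoughInjectives C]

variable {E : Type u''} [Category.{v''} E] [Abelian E]

/-- An exact functor followed by a delta functor. -/
def precompDelta (G : E ⥤ C) [G.Additive] (hG : ∀ {S : ShortComplex E}, S.ShortExact → (S.map G).ShortExact)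
    (T : DeltaFun C D) : DeltaFun E D where
  F i := G ⋙ T.F i
  preservesZero i := haveI := T.preservesZero i; inferInstance
  δ {S} hS i := T.δ (hG hS) i
  δ_natural {S S'} hS hS' φ i := T.δ_natural (hG hS) (hG hS') (G.mapShortComplex.map φ) i
  map_comp_δ hS i := T.map_comp_δ (hG hS) i
  δ_comp_map hS i := T.δ_comp_map (hG hS) i
  exact₁ hS i := T.exact₁ (hG hS) i
  exact₂ {S} hS i := T.exact₂ (hG hS) i
  exact₃ hS i := T.exact₃ (hG hS) i
  mono₀ hS := T.mono₀ (hG hS)

end EtBcQLib
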