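/-
The map from the stalk at the closed point of a strict localisation to the stalk of the inverse image at a
geometric point over it.
-/
import Groth.Agent.EtRpushStalkLib.Germ
import Groth.Agent.EtShLib.SamePoint

set_option autoImplicit false
set_option linter.all false
set_option backward.isDefEq.respectTransparency false
set_option backward.isDefEq.respectTransparency.types false
set_option synthInstance.maxHeartbeats 400000
set_option maxHeartbeats 1000000

universe u

open CategoryTheory CategoryTheory.Limits AlgebraicGeometry Opposite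
open Groth.Agent.EtShLib EtRpushStalkLib

noncomputable section

namespace EtBcQLib

variable {X S : Scheme.{u}} (f : X ⟶ S) {R : Type u} [CommRing R] [HenselianLocalRing R]
  [IsSepClosed (IsLocalRing.ResidueField R)] (gS : Spec (CommRingCat.of R) ⟶ S)
  {Ω : Type u} [Field Ω] [IsSepClosed Ω] (ξ : Spec (CommRingCat.of Ω) ⟶ X)
  (j : Spec (CommRingCat.of Ω) ⟶ Spec (CommRingCat.of R)) (hj : j ≫ gS = ξ ≫ f)

/-- The lift of the geometric point through the strict localisation. -/
def liftFib (V : S.Etale) (v : Fib (closedPt R ≫ gS) V) : Fib (ξ ≫ f) V :=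
  Fib.mk (j ≫ sigma gS V v) (by rw [Category.assoc, sigma_w, hj])

/-- The arrow of points. -/
def ptArrow : Scheme.pointSmallEtale (ξ ≫ f) ⟶ Scheme.pointSmallEtale (closedPt R ≫ gS) :=
  ⟨{ app := fun V => TypeCat.ofHom (fun v => liftFib f gS ξ j hj V v)
     naturality := fun V V' a => by
       ext v
       refine Fib.ext ?_
       show j ≫ sigma gS V' (Fib.map (ξ := closedPt R ≫ gS) a v) = (j ≫ sigma gS V v) ≫ a.left
       exact (congrArg (j ≫ ·) (sigma_map gS a v).symm).trans (Category.assoc _ _ _).symm }⟩

/-- From the stalk at the closed point to the stalk of the inverse image. -/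
def pi : stk (A := AddCommGrpCat.{u + 1}) (closedPt R ≫ gS) ⟶
    EtCoh.pull f ⋙ stk (A := AddCommGrpCat.{u + 1}) ξ :=
  GrothendieckTopology.Point.Hom.sheafFiber (ptArrow f gS ξ j hj) ≫ (stalkPull f ξ AddCommGrpCat.{u + 1}).hom

theorem germ_pi (G : EtCoh.Ab S) (V : S.Etale) (v : Fib (closedPt R ≫ gS) V) :
    germ (A := AddCommGrpCat.{u + 1}) (closedPt R ≫ gS) G V v ≫ (pi f gS ξ j hj).app G =
      ((EtCoh.pullPushAdj f).unit.app G).hom.app (op V) ≫
        germ (A := AddCommGrpCat.{u + 1}) ξ ((EtCoh.pull f).obj G) ((EtCoh.bc f).obj V)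
          ((liftFib f gS ξ j hj V v).lift f ξ) := by
  refine Eq.trans ?_ (germ_stalkPull f ξ AddCommGrpCat.{u + 1} G V (liftFib f gS ξ j hj V v))
  rw [pi, NatTrans.comp_app, ← Category.assoc]
  refine congrArg (· ≫ _) ?_
  dsimp [germ]
  rw [GrothendieckTopology.Point.Hom.presheafFiber_app]
  exact (pt (closedPt R ≫ gS)).toPresheafFiber_presheafFiberDesc (P := G.obj) _ _ V v

theorem isIso_pi (hc : j.base default = IsLocalRing.closedPoint R) : IsIso (pi f gS ξ j hj) := by
  have e : (ξ ≫ f).base default = (closedPt R ≫ gS).base default := by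
    rw [← hj]
    refine congrArg gS.base ?_
    refine hc.trans ?_
    exact (IsLocalRing.comap_closedPoint (IsLocalRing.residue R)).symm.trans
      (congrArg _ (Subsingleton.elim _ _))
  haveI := isIso_sheafFiber_of_eq (A := AddCommGrpCat.{u + 1}) (ptArrow f gS ξ j hj) e
  exact IsIso.comp_isIso

end EtBcQLib
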