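/-
The two families of maps between stalks of higher direct images and cohomology of fibres: one through the base change
morphism, one through pullback of cohomology; both commute with the connecting morphisms.
-/
import Groth.Agent.EtBcQLib.Et
import Groth.Agent.EtBcQLib.DeltaHom
import Groth.Agent.EtBcQLib.Point
import Groth.Agent.EtRpushStalkLib.Iso

set_option autoImplicit false
set_option linter.all false
set_option backward.isDefEq.respectTransparency false
set_option backward.isDefEq.respectTransparency.types false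
set_option synthInstance.maxHeartbeats 400000
set_option maxHeartbeats 1600000

universe u

open CategoryTheory CategoryTheory.Limits AlgebraicGeometry Opposite CategoryTheory.Abelian
open Groth.Agent.EtShLib EtRpushStalkLib

noncomputable section

namespace EtBcQLib

attribute [local instance] EtSliceLib.pullExact

/-- Cohomology of an inverse image as a delta functor. -/
abbrev hDelta {P T : Scheme.{u}} (a : P ⟶ T) : LocCohLib.DeltaFun (EtCoh.Ab T) AddCommGrpCat.{u + 1} :=
  FormalPunctLib.extCompDelta (EtCoh.pull a) (fun {_} hT => shortExact_pull a hT) (EtCoh.const P ℤ)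

section Fibre

variable {T S : Scheme.{u}} (g : T ⟶ S) [QuasiCompact g] [QuasiSeparated g] {R : Type u} [CommRing R]
  [HenselianLocalRing R] [IsSepClosed (IsLocalRing.ResidueField R)] {gS : Spec (CommRingCat.of R) ⟶ S}
  {P : Scheme.{u}} {a : P ⟶ T} {b : P ⟶ Spec (CommRingCat.of R)} (sq : IsPullback a b g gS) (C : Chart gS)

/-- Stalks of higher direct images as a delta functor. -/
abbrev stkDelta (gS : Spec (CommRingCat.of R) ⟶ S) : LocCohLib.DeltaFun (EtCoh.Ab T) AddCommGrpCat.{u + 1} :=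
  FormalPunctLib.compExact (EtCechInjLib.derDelta (EtCoh.push g))
    (stk (A := AddCommGrpCat.{u + 1}) (closedPt R ≫ gS))

omit [QuasiCompact g] [QuasiSeparated g] in
theorem stkDelta_effaceable : (stkDelta g gS).Effaceable :=
  FormalPunctLib.compExact_effaceable
    (fun E hE i => haveI := hE; Functor.isZero_rightDerived_obj_injective_succ _ i E) _

include sq C in
theorem hDelta_effaceable : (hDelta a).Effaceable := fun J hJ i => by
  haveI := hJ
  haveI : Subsingleton ↑(((hDelta a).F (i + 1)).obj J) := subsingleton_H g sq C J i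
  exact AddCommGrpCat.isZero_of_subsingleton _

/-- The comparison in degree zero. -/
def isoZero : (stkDelta g gS).F 0 ≅ (hDelta a).F 0 :=
  haveI : IsIso (alpha g gS sq.w) := isIso_alpha g sq C
  Functor.isoWhiskerRight (EtCoh.push g).rightDerivedZeroIsoSelf _ ≪≫ asIso (alpha g gS sq.w) ≪≫
    Functor.isoWhiskerLeft (EtCoh.pull a) (extZeroGsec P).symm

/-- Stalks of higher direct images are the cohomology of the fibre. -/
def isoStk (i : ℕ) : (stkDelta g gS).F i ≅ (hDelta a).F i :=
  LocCohLib.DeltaFun.isoOfZero (stkDelta_effaceable g) (hDelta_effaceable g sq C) (isoZero g sq C) i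

theorem isoStk_delta {U : ShortComplex (EtCoh.Ab T)} (hU : U.ShortExact) (i : ℕ) :
    (stkDelta g gS).δ hU i ≫ (isoStk g sq C (i + 1)).hom.app U.X₁ =
      (isoStk g sq C i).hom.app U.X₃ ≫ (hDelta a).δ hU i :=
  comm_isoOfZero (stkDelta_effaceable g) (hDelta_effaceable g sq C) (isoZero g sq C) hU i

end Fibre

section Post

variable {T P : Scheme.{u}} {A B : EtCoh.Ab T ⥤ EtCoh.Ab P} (τ : A ⟶ B)

theorem postcomp_delta {U : ShortComplex (EtCoh.Ab T)} [A.Additive] [B.Additive] (hA : (U.map A).ShortExact)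
    (hB : (U.map B).ShortExact) (i : ℕ) (x : EtCoh.H P (A.obj U.X₃) i) :
    Ext.comp (x.comp hA.extClass rfl) (Ext.mk₀ (τ.app U.X₁)) (add_zero (i + 1)) =
      Ext.comp (x.comp (Ext.mk₀ (τ.app U.X₃)) (add_zero i)) hB.extClass rfl := by
  rw [Ext.comp_assoc (a₂₃ := 1) _ _ _ rfl (add_zero 1) (by omega),
    Ext.comp_assoc (a₂₃ := 1) _ _ _ (add_zero i) (zero_add 1) (by omega)]
  exact congrArg (fun z => Ext.comp x z rfl)
    (ShortComplex.ShortExact.extClass_naturality hA hB (U.mapNatTrans τ))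

end Post

section Via

variable {Q P T : Scheme.{u}} (m : Q ⟶ P) (a : P ⟶ T) (a' : Q ⟶ T) (w : m ≫ a = a')

/-- The transport along the composition of inverse images. -/
abbrev cVia : EtCoh.pull a ⋙ EtCoh.pull m ⟶ EtCoh.pull a' :=
  ((EtCore.pullComp m a).symm ≪≫ EtCore.pullCongr w).hom

variable [PreservesFiniteLimits (EtCoh.pull m)]

/-- Pullback of cohomology as a natural transformation. -/
def viaFam (i : ℕ) : (hDelta a).F i ⟶ (hDelta a').F i where
  app M := AddCommGrpCat.ofHom (EtCore.HpullVia m a a' w M i)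
  naturality M M' φ := by
    ext (x : EtCoh.H P ((EtCoh.pull a).obj M) i)
    show (EtCore.Hpull m _ i (x.comp (Ext.mk₀ ((EtCoh.pull a).map φ)) (add_zero i))).comp
        (Ext.mk₀ ((cVia m a a' w).app M')) (add_zero i) =
      ((EtCore.Hpull m _ i x).comp (Ext.mk₀ ((cVia m a a' w).app M)) (add_zero i)).comp
        (Ext.mk₀ ((EtCoh.pull a').map φ)) (add_zero i)
    rw [EtAcycLib.Hpull_postcomp, Ext.comp_assoc_of_second_deg_zero, Ext.comp_assoc_of_second_deg_zero,
      Ext.mk₀_comp_mk₀, Ext.mk₀_comp_mk₀]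
    exact congrArg (fun t => Ext.comp _ (Ext.mk₀ t) (add_zero i)) ((cVia m a a' w).naturality φ)

theorem viaFam_comm : Comm (viaFam m a a' w) := fun {U} hU i => by
  haveI : PreservesFiniteColimits (EtCoh.pull m) := EtCore.pull_preservesFiniteColimits m
  ext (x : EtCoh.H P ((EtCoh.pull a).obj U.X₃) i)
  show (EtCore.Hpull m ((EtCoh.pull a).obj U.X₁) (i + 1)
      (x.comp (shortExact_pull a hU).extClass rfl)).comp (Ext.mk₀ ((cVia m a a' w).app U.X₁)) (add_zero (i + 1)) =
    Ext.comp ((EtCore.Hpull m ((EtCoh.pull a).obj U.X₃) i x).comp (Ext.mk₀ ((cVia m a a' w).app U.X₃)) (add_zero i))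
      (shortExact_pull a' hU).extClass rfl
  refine (congrArg (fun t => Ext.comp t (Ext.mk₀ ((cVia m a a' w).app U.X₁)) (add_zero (i + 1)))
    (EtAcycLib.Hpull_delta m (shortExact_pull a hU) x)).trans ?_
  exact postcomp_delta (cVia m a a' w) ((shortExact_pull a hU).map_of_exact (EtCoh.pull m)) (shortExact_pull a' hU) i _

end Via

section Main

variable {X S T Y : Scheme.{u}} (g : T ⟶ S) [QuasiCompact g] [QuasiSeparated g] (f : X ⟶ S) (h : Y ⟶ X)
  [QuasiCompact h] [QuasiSeparated h] (e : Y ⟶ T) (w : e ≫ g = h ≫ f) [PreservesFiniteLimits (EtCoh.pull e)]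
  {RS : Type u} [CommRing RS] [HenselianLocalRing RS] [IsSepClosed (IsLocalRing.ResidueField RS)]
  (gS : Spec (CommRingCat.of RS) ⟶ S)
  {RX : Type u} [CommRing RX] [HenselianLocalRing RX] [IsSepClosed (IsLocalRing.ResidueField RX)]
  {gX : Spec (CommRingCat.of RX) ⟶ X} (j : Spec (CommRingCat.of (IsLocalRing.ResidueField RX)) ⟶ Spec (CommRingCat.of RS))
  (hj : j ≫ gS = (closedPt RX ≫ gX) ≫ f)
  {Q : Scheme.{u}} {aY : Q ⟶ Y} {bX : Q ⟶ Spec (CommRingCat.of RX)} (sqX : IsPullback aY bX h gX) (CX : Chart gX)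
  (aX : Q ⟶ T) (wa : aY ≫ e = aX)

/-- The family through the base change morphism. -/
def bcFam (i : ℕ) : (stkDelta g gS).F i ⟶ (hDelta aX).F i where
  app M := (pi f gS (closedPt RX ≫ gX) j hj).app ((EtCoh.Rpush g i).obj M) ≫
    (stk (closedPt RX ≫ gX)).map ((bcNat g f h e w i).app M) ≫
    (isoStk h sqX CX i).hom.app ((EtCoh.pull e).obj M) ≫
    (extFunctorObj (EtCoh.const Q ℤ) i).map ((cVia aY e aX wa).app M)
  naturality M M' φ := by
    show (stk _).map ((EtCoh.Rpush g i).map φ) ≫ _ = _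
    refine ((pi f gS (closedPt RX ≫ gX) j hj).naturality_assoc ((EtCoh.Rpush g i).map φ) _).trans ?_
    simp only [Category.assoc]
    refine congrArg ((pi f gS (closedPt RX ≫ gX) j hj).app ((EtCoh.Rpush g i).obj M) ≫ ·) ?_
    show (stk _).map ((EtCoh.pull f).map ((EtCoh.Rpush g i).map φ)) ≫ (stk _).map _ ≫ _ = _
    rw [← Functor.map_comp_assoc]
    erw [(bcNat g f h e w i).naturality φ]
    rw [Functor.map_comp_assoc]
    refine congrArg ((stk (closedPt RX ≫ gX)).map ((bcNat g f h e w i).app M) ≫ ·) ?_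
    refine ((isoStk h sqX CX i).hom.naturality_assoc ((EtCoh.pull e).map φ) _).trans ?_
    refine congrArg ((isoStk h sqX CX i).hom.app ((EtCoh.pull e).obj M) ≫ ·) ?_
    show (extFunctorObj _ i).map _ ≫ (extFunctorObj _ i).map _ = _ ≫ (extFunctorObj _ i).map _
    rw [← Functor.map_comp, ← Functor.map_comp]
    exact congrArg _ ((cVia aY e aX wa).naturality φ)

theorem bcFam_comm : Comm (bcFam g f h e w gS j hj sqX CX aX wa) := fun {U} hU i => by
  have hU' : (U.map (EtCoh.pull e)).ShortExact := shortExact_pull e hU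
  show (stk (closedPt RS ≫ gS)).map ((EtCechInjLib.derDelta (EtCoh.push g)).δ hU i) ≫
      (pi f gS (closedPt RX ≫ gX) j hj).app ((EtCoh.Rpush g (i + 1)).obj U.X₁) ≫ _ =
    ((pi f gS (closedPt RX ≫ gX) j hj).app ((EtCoh.Rpush g i).obj U.X₃) ≫ _) ≫ _
  refine ((pi f gS (closedPt RX ≫ gX) j hj).naturality_assoc
    ((EtCechInjLib.derDelta (EtCoh.push g)).δ hU i) _).trans ?_
  simp only [Category.assoc]
  refine congrArg ((pi f gS (closedPt RX ≫ gX) j hj).app ((EtCoh.Rpush g i).obj U.X₃) ≫ ·) ?_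
  show (stk _).map ((EtCoh.pull f).map ((EtCechInjLib.derDelta (EtCoh.push g)).δ hU i)) ≫
    (stk _).map (EtBC.bcQ g f h e w (i + 1) U.X₁) ≫ _ = _
  rw [← Functor.map_comp_assoc, bcNat_delta g f h e w hU hU' i, Functor.map_comp_assoc]
  refine congrArg ((stk (closedPt RX ≫ gX)).map (EtBC.bcQ g f h e w i U.X₃) ≫ ·) ?_
  refine (reassoc_of% (isoStk_delta h sqX CX hU' i)) _ |>.trans ?_
  refine congrArg ((isoStk h sqX CX i).hom.app ((EtCoh.pull e).obj U.X₃) ≫ ·) ?_
  ext (x : EtCoh.H Q ((EtCoh.pull aY).obj ((EtCoh.pull e).obj U.X₃)) i)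
  show (x.comp (shortExact_pull aY hU').extClass rfl).comp (Ext.mk₀ ((cVia aY e aX wa).app U.X₁)) (add_zero (i + 1)) =
    (x.comp (Ext.mk₀ ((cVia aY e aX wa).app U.X₃)) (add_zero i)).comp (shortExact_pull aX hU).extClass rfl
  exact postcomp_delta (cVia aY e aX wa) (A := EtCoh.pull e ⋙ EtCoh.pull aY) (shortExact_pull aY hU') (shortExact_pull aX hU) i x

end Main

end EtBcQLib
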