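/-
The two families agree in degree zero, hence in every degree.
-/
import Groth.Agent.EtBcQLib.Stalk
import Groth.Agent.EtShLib.FiniteBC0
import Groth.Agent.EtRpushStalkLib.Sec

set_option autoImplicit false
set_option linter.all false
set_option backward.isDefEq.respectTransparency false
set_option backward.isDefEq.respectTransparency.types false
set_option synthInstance.maxHeartbeats 400000
set_option maxHeartbeats 1600000

universe u

open CategoryTheory CategoryTheory.Limits AlgebraicGeometry Opposite CategoryTheory.Abelian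
open Groth.Agent.EtShLib EtRpushStalkLib

noncomputable section

namespace EtBcQLib

attribute [local instance] EtSliceLib.pullExact

section Gen

variable {Q P T : Scheme.{u}} (m : Q ⟶ P) (a : P ⟶ T) (a' : Q ⟶ T) (w : m ≫ a = a')

/-- The units compose. -/
theorem unit_cVia (M : EtCoh.Ab T) (U : T.Etale) (t : ToType (M.obj.obj (op U))) :
    ((cVia m a a' w).app M).hom.app (op ((EtCoh.bc m).obj ((EtCoh.bc a).obj U)))
        (((EtCoh.pullPushAdj m).unit.app ((EtCoh.pull a).obj M)).hom.app (op ((EtCoh.bc a).obj U))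
          (((EtCoh.pullPushAdj a).unit.app M).hom.app (op U) t)) =
      ((EtCoh.pull a').obj M).obj.map (DescSecLib.bcCompHom m a a' w U).op
        (((EtCoh.pullPushAdj a').unit.app M).hom.app (op U) t) := by
  have e : (cVia m a a' w).app M = (DescSecLib.etSys.c m a a' w).app M := EtSliceLib.pullComp_inv_eq m a a' w M
  have h := DescSecLib.PullSys.homEquiv_c DescSecLib.etSys m a a' w M
  rw [← e] at h
  erw [Adjunction.homEquiv_unit, Adjunction.homEquiv_unit] at h
  exact congrArg (fun z : M ⟶ _ => z.hom.app (op U) t) h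

theorem toFib_comp (U : T.Etale) (τ : Q ⟶ ((EtCoh.bc a).obj U).left) (hτ : τ ≫ ((EtCoh.bc a).obj U).hom = m)
    (σ : Q ⟶ U.left) (hσ : σ ≫ U.hom = a') (e : τ ≫ pullback.fst U.hom a = σ) :
    toFib ((EtCoh.bc a).obj U) τ m hτ ≫ DescSecLib.bcCompHom m a a' w U = toFib U σ a' hσ := by
  refine DescSecLib.bc_hom_ext a' _ _ ?_
  show ((toFib ((EtCoh.bc a).obj U) τ m hτ).left ≫ _) ≫ _ = _
  rw [Category.assoc, DescSecLib.bcCompHom_fst, ← Category.assoc]
  refine Eq.trans ?_ (e.trans (toFib_fst U σ a' hσ).symm)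
  exact congrArg (· ≫ pullback.fst U.hom a) (toFib_fst ((EtCoh.bc a).obj U) τ m hτ)

theorem bcTop_toFib (U : T.Etale) (σ : P ⟶ U.left) (hσ : σ ≫ U.hom = a) (hσ' : (m ≫ σ) ≫ U.hom = a') :
    (EtCore.bcTopIso m).inv ≫ (EtCoh.bc m).map (toFib U σ a hσ) ≫ DescSecLib.bcCompHom m a a' w U =
      toFib U (m ≫ σ) a' hσ' := by
  refine DescSecLib.bc_hom_ext a' _ _ ?_
  show ((EtCore.bcTopIso m).inv.left ≫ ((EtCoh.bc m).map (toFib U σ a hσ)).left ≫ _) ≫ _ = _
  rw [Category.assoc, Category.assoc, DescSecLib.bcCompHom_fst]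
  refine Eq.trans ?_ (toFib_fst U (m ≫ σ) a' hσ').symm
  rw [← Category.assoc ((EtCoh.bc m).map (toFib U σ a hσ)).left]
  erw [DescSecLib.bc_map_fst]
  rw [Category.assoc]
  erw [toFib_fst]
  have h1 : (EtCore.bcTopIso m).inv.left ≫ pullback.snd (EtCoh.top P).hom m = 𝟙 Q :=
    MorphismProperty.Over.w (EtCore.bcTopIso m).inv
  have h2 : pullback.fst (EtCoh.top P).hom m = pullback.snd (EtCoh.top P).hom m ≫ m :=
    (Category.comp_id _).symm.trans pullback.condition
  refine (congrArg (fun z => (EtCore.bcTopIso m).inv.left ≫ z ≫ σ) h2).trans ?_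
  exact (Category.assoc _ _ _).symm.trans ((congrArg (· ≫ σ) ((Category.assoc _ _ _).symm.trans
    ((congrArg (· ≫ m) h1).trans (Category.id_comp m)))))

variable [PreservesFiniteLimits (EtCoh.pull m)]

/-- Pullback of a section over an étale object. -/
theorem sec_viaFam (M : EtCoh.Ab T) (U : T.Etale) (σ : P ⟶ U.left) (hσ : σ ≫ U.hom = a)
    (hσ' : (m ≫ σ) ≫ U.hom = a') (t : ToType (M.obj.obj (op U))) (x : EtCoh.H P ((EtCoh.pull a).obj M) 0)
    (hx : EtContLib.sec x = ((EtCoh.pull a).obj M).obj.map (toFib U σ a hσ).op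
      (((EtCoh.pullPushAdj a).unit.app M).hom.app (op U) t)) :
    EtContLib.sec (EtCore.HpullVia m a a' w M 0 x) =
      ((EtCoh.pull a').obj M).obj.map (toFib U (m ≫ σ) a' hσ').op
        (((EtCoh.pullPushAdj a').unit.app M).hom.app (op U) t) := by
  let α := (EtCoh.pullPushAdj m).homEquiv _ _ ((cVia m a a' w).app M)
  have hα : EtContLib.adjL m α = (cVia m a a' w).app M := Equiv.symm_apply_apply _ _
  have e0 : EtCore.HpullVia m a a' w M 0 x = EtLim.HpullThen m ((EtCoh.pull a).obj M) (EtContLib.adjL m α) 0 x := by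
    rw [hα]
    rfl
  rw [e0, EtContLib.sec_HpullThen, hx]
  rw [← bcTop_toFib m a a' w U σ hσ hσ']
  have e1 : α = (EtCoh.pullPushAdj m).unit.app _ ≫ (EtCoh.push m).map ((cVia m a a' w).app M) :=
    Adjunction.homEquiv_unit _ _ _ _
  rw [NatTrans.naturality_apply α.hom, e1]
  show ((EtCoh.pull a').obj M).obj.map (EtCore.bcTopIso m).inv.op
    (((EtCoh.pull a').obj M).obj.map ((EtCoh.bc m).map (toFib U σ a hσ)).op
      (((cVia m a a' w).app M).hom.app (op ((EtCoh.bc m).obj ((EtCoh.bc a).obj U)))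
        (((EtCoh.pullPushAdj m).unit.app ((EtCoh.pull a).obj M)).hom.app (op ((EtCoh.bc a).obj U))
          (((EtCoh.pullPushAdj a).unit.app M).hom.app (op U) t)))) = _
  rw [unit_cVia, op_comp, op_comp, Functor.map_comp, Functor.map_comp]
  rfl

end Gen

theorem sigma'_fst {A B : Scheme.{u}} (f : A ⟶ B) {R : Type u} [CommRing R] [HenselianLocalRing R]
    [IsSepClosed (IsLocalRing.ResidueField R)] (gS : Spec (CommRingCat.of R) ⟶ B) {P : Scheme.{u}} {g' : P ⟶ A}
    {f' : P ⟶ Spec (CommRingCat.of R)} (w : g' ≫ f = f' ≫ gS) (V : B.Etale) (v : Fib (closedPt R ≫ gS) V) :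
    sigma' f gS w V v ≫ pullback.fst V.hom f = f' ≫ sigma gS V v :=
  pullback.lift_fst _ _ _

section IsoZero

variable {T S : Scheme.{u}} (g : T ⟶ S) [QuasiCompact g] [QuasiSeparated g] {R : Type u} [CommRing R]
  [HenselianLocalRing R] [IsSepClosed (IsLocalRing.ResidueField R)] {gS : Spec (CommRingCat.of R) ⟶ S}
  {P : Scheme.{u}} {a : P ⟶ T} {b : P ⟶ Spec (CommRingCat.of R)} (sq : IsPullback a b g gS) (C : Chart gS)

theorem toRDZ_isoStk (M : EtCoh.Ab T) :
    (stk (closedPt R ≫ gS)).map ((EtCoh.push g).toRightDerivedZero.app M) ≫ (isoStk g sq C 0).hom.app M =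
      alphaApp g gS sq.w M ≫ (extZeroGsec P).inv.app ((EtCoh.pull a).obj M) := by
  show _ ≫ (stk (closedPt R ≫ gS)).map ((EtCoh.push g).rightDerivedZeroIsoSelf.hom.app M) ≫
    alphaApp g gS sq.w M ≫ (extZeroGsec P).inv.app ((EtCoh.pull a).obj M) = _
  rw [← Functor.map_comp_assoc, ← NatTrans.comp_app, Functor.rightDerivedZeroIsoSelf_inv_hom_id, NatTrans.id_app,
    CategoryTheory.Functor.map_id, Category.id_comp]

theorem sec_inv (G : EtCoh.Ab P) (s : ToType ((EtCore.gsec P).obj G)) :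
    EtContLib.sec ((extZeroGsec P).inv.app G s) = s :=
  ConcreteCategory.congr_hom ((extZeroGsec P).inv_hom_id_app G) s

end IsoZero

section Main

variable {X S T Y : Scheme.{u}} (g : T ⟶ S) [QuasiCompact g] [QuasiSeparated g] (f : X ⟶ S) (h : Y ⟶ X)
  [QuasiCompact h] [QuasiSeparated h] (e : Y ⟶ T) (c : IsPullback e h g f) [PreservesFiniteLimits (EtCoh.pull e)]
  {RS : Type u} [CommRing RS] [HenselianLocalRing RS] [IsSepClosed (IsLocalRing.ResidueField RS)]
  {gS : Spec (CommRingCat.of RS) ⟶ S}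
  {RX : Type u} [CommRing RX] [HenselianLocalRing RX] [IsSepClosed (IsLocalRing.ResidueField RX)]
  {gX : Spec (CommRingCat.of RX) ⟶ X} (ψ : Spec (CommRingCat.of RX) ⟶ Spec (CommRingCat.of RS))
  (hψ : ψ ≫ gS = gX ≫ f)
  {Q : Scheme.{u}} {aY : Q ⟶ Y} {bX : Q ⟶ Spec (CommRingCat.of RX)} (sqX : IsPullback aY bX h gX) (CX : Chart gX)
  (aX : Q ⟶ T) (wa : aY ≫ e = aX)
  {P : Scheme.{u}} {aS : P ⟶ T} {bS : P ⟶ Spec (CommRingCat.of RS)} (sqS : IsPullback aS bS g gS) (CS : Chart gS)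
  (m : Q ⟶ P) (wm : m ≫ aS = aX) (hm : m ≫ bS = bX ≫ ψ) [PreservesFiniteLimits (EtCoh.pull m)]

include hψ in
theorem hj : (closedPt RX ≫ ψ) ≫ gS = (closedPt RX ≫ gX) ≫ f := by
  rw [Category.assoc, hψ, Category.assoc]

/-- The lifts agree. -/
theorem sigma_eq (V : S.Etale) (v : Fib (closedPt RS ≫ gS) V) :
    sigma gX ((EtCoh.bc f).obj V)
        ((liftFib f gS (closedPt RX ≫ gX) (closedPt RX ≫ ψ) (hj f ψ hψ) V v).lift f (closedPt RX ≫ gX)) ≫
      pullback.fst V.hom f = ψ ≫ sigma gS V v := by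
  have e0 : pullback.lift (ψ ≫ sigma gS V v) gX (by rw [Category.assoc, sigma_w, hψ]) =
      sigma gX ((EtCoh.bc f).obj V)
        ((liftFib f gS (closedPt RX ≫ gX) (closedPt RX ≫ ψ) (hj f ψ hψ) V v).lift f (closedPt RX ≫ gX)) := by
    refine eq_sigma gX ((EtCoh.bc f).obj V) _ _ (show pullback.lift _ gX _ ≫ pullback.snd V.hom f = gX from pullback.lift_snd _ _ _) ?_
    apply pullback.hom_ext
    · refine (Category.assoc _ _ _).trans ((congrArg (closedPt RX ≫ ·) (pullback.lift_fst _ _ _)).trans ?_)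
      exact (Category.assoc _ _ _).symm.trans (pullback.lift_fst _ _ _).symm
    · refine (Category.assoc _ _ _).trans ((congrArg (closedPt RX ≫ ·) (pullback.lift_snd _ _ _)).trans ?_)
      exact (pullback.lift_snd _ _ _).symm
  rw [← e0]
  exact pullback.lift_fst _ _ _

include c in
/-- The base change morphism on a section. -/
theorem unit_bc0 (M : EtCoh.Ab T) (V : S.Etale) (t : ToType (((EtCoh.push g).obj M).obj.obj (op V))) :
    (EtCoh.baseChange0 g f h e c.w M).hom.app (op ((EtCoh.bc f).obj V))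
        (((EtCoh.pullPushAdj f).unit.app ((EtCoh.push g).obj M)).hom.app (op V) t) =
      ((EtCoh.pull e).obj M).obj.map (sqHom c V).op
        (((EtCoh.pullPushAdj e).unit.app M).hom.app (op ((EtCoh.bc g).obj V)) t) := by
  rw [← bcHom_eq g f h e c M]
  have := (EtCoh.pullPushAdj f).homEquiv_unit ((EtCoh.push g).obj M)
    ((EtCoh.push h).obj ((EtCoh.pull e).obj M)) (bcHom c M)
  rw [show (EtCoh.pullPushAdj f).homEquiv _ _ (bcHom c M) = bcAdj c M from Equiv.apply_symm_apply _ _] at this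
  exact (congrArg (fun z : (EtCoh.push g).obj M ⟶ _ => z.hom.app (op V) t) this).symm

include CS sqS wm hm in
theorem zero_eq : bcFam g f h e c.w gS (closedPt RX ≫ ψ) (hj f ψ hψ) sqX CX aX wa 0 =
    (isoStk g sqS CS 0).hom ≫ viaFam m aS aX wm 0 := by
  refine NatTrans.ext (funext fun M => ?_)
  haveI : IsIso ((EtCoh.push g).toRightDerivedZero.app M) := inferInstance
  refine (cancel_epi ((stk (A := AddCommGrpCat.{u + 1}) (closedPt RS ≫ gS)).map
    ((EtCoh.push g).toRightDerivedZero.app M))).1 ?_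
  show (stk _).map _ ≫ (pi f gS (closedPt RX ≫ gX) (closedPt RX ≫ ψ) (hj f ψ hψ)).app _ ≫
      (stk (closedPt RX ≫ gX)).map (EtBC.bcQ g f h e c.w 0 M) ≫ _ =
    (stk _).map _ ≫ (isoStk g sqS CS 0).hom.app M ≫ (viaFam m aS aX wm 0).app M
  refine ((pi f gS (closedPt RX ≫ gX) (closedPt RX ≫ ψ) (hj f ψ hψ)).naturality_assoc
    ((EtCoh.push g).toRightDerivedZero.app M) _).trans ?_
  show _ ≫ (stk (closedPt RX ≫ gX)).map ((EtCoh.pull f).map ((EtCoh.push g).toRightDerivedZero.app M)) ≫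
    (stk (closedPt RX ≫ gX)).map (EtBC.bcQ g f h e c.w 0 M) ≫ _ = _
  rw [← Functor.map_comp_assoc, EtBC.bcQ_zero_compat, Functor.map_comp_assoc,
    reassoc_of% (toRDZ_isoStk g sqS CS M)]
  rw [reassoc_of% (toRDZ_isoStk h sqX CX ((EtCoh.pull e).obj M))]
  refine stk_hom_ext (closedPt RS ≫ gS) fun V v => ?_
  ext t
  refine EtContLib.sec_injective ?_
  let U := (EtCoh.bc g).obj V
  let ξ := closedPt RX ≫ gX
  let W := (EtCoh.bc f).obj V
  let v' : Fib ξ W := (liftFib f gS ξ (closedPt RX ≫ ψ) (hj f ψ hψ) V v).lift f ξ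
  let σ' := sigma' h gX sqX.w W v'
  let τ : Q ⟶ ((EtCoh.bc e).obj U).left := σ' ≫ (sqHom c V).left
  have hτ : τ ≫ ((EtCoh.bc e).obj U).hom = aY := by
    show (σ' ≫ (sqHom c V).left) ≫ _ = _
    rw [Category.assoc]
    exact (congrArg (σ' ≫ ·) (MorphismProperty.Over.w (sqHom c V))).trans (sigma'_w h gX sqX.w W v')
  let σ : Q ⟶ U.left := τ ≫ pullback.fst U.hom e
  have hσ : σ ≫ U.hom = aX := by
    show (τ ≫ _) ≫ _ = _
    rw [Category.assoc, pullback.condition, ← Category.assoc]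
    exact (congrArg (· ≫ e) hτ).trans wa
  have hS : (m ≫ sigma' g gS sqS.w V v) ≫ U.hom = aX := by
    rw [Category.assoc]
    exact (congrArg (m ≫ ·) (sigma'_w g gS sqS.w V v)).trans wm
  have key : σ = m ≫ sigma' g gS sqS.w V v := by
    apply pullback.hom_ext
    · show ((σ' ≫ (sqHom c V).left) ≫ pullback.fst U.hom e) ≫ pullback.fst V.hom g = _
      refine Eq.trans ?_ (Category.assoc _ _ _).symm
      erw [sigma'_fst g gS sqS.w V v]
      rw [← Category.assoc m, hm, Category.assoc bX, ← sigma_eq f ψ hψ V v, Category.assoc, Category.assoc]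
      refine (congrArg (σ' ≫ ·) ((Category.assoc _ _ _).symm.trans (sq_fst_fst c V))).trans ?_
      exact (Category.assoc _ _ _).symm.trans ((congrArg (· ≫ pullback.fst V.hom f)
        (sigma'_fst h gX sqX.w W v')).trans (Category.assoc _ _ _))
    · exact hσ.trans hS.symm
  have hB := sec_viaFam m aS aX wm M U (sigma' g gS sqS.w V v) (sigma'_w g gS sqS.w V v) hS t
    ((extZeroGsec P).inv.app ((EtCoh.pull aS).obj M) (component g gS sqS.w M V v t)) (sec_inv _ _)
  refine Eq.trans ?_ ((congrArg (fun z => EtContLib.sec ((viaFam m aS aX wm 0).app M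
    ((extZeroGsec P).inv.app ((EtCoh.pull aS).obj M) z)))
    (ConcreteCategory.congr_hom (germ_alphaApp g gS sqS.w M V v) t)).trans hB).symm
  simp only [ConcreteCategory.comp_apply]
  show EtContLib.sec ((extFunctorObj (EtCoh.const Q ℤ) 0).map ((cVia aY e aX wa).app M)
    ((extZeroGsec Q).inv.app ((EtCoh.pull aY).obj ((EtCoh.pull e).obj M))
      (alphaApp h gX sqX.w ((EtCoh.pull e).obj M) ((stk ξ).map (EtCoh.baseChange0 g f h e c.w M)
        ((pi f gS ξ (closedPt RX ≫ ψ) (hj f ψ hψ)).app ((EtCoh.push g).obj M)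
          (germ (closedPt RS ≫ gS) ((EtCoh.push g).obj M) V v t)))))) = _
  refine (sec_comp_mk₀ _ _).trans ((congrArg ((EtCore.gsec Q).map ((cVia aY e aX wa).app M)) (sec_inv _ _)).trans ?_)
  have hp : (pi f gS ξ (closedPt RX ≫ ψ) (hj f ψ hψ)).app ((EtCoh.push g).obj M)
      (germ (closedPt RS ≫ gS) ((EtCoh.push g).obj M) V v t) =
      germ ξ ((EtCoh.pull f).obj ((EtCoh.push g).obj M)) W v'
        (((EtCoh.pullPushAdj f).unit.app ((EtCoh.push g).obj M)).hom.app (op V) t) :=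
    ConcreteCategory.congr_hom (germ_pi f gS ξ (closedPt RX ≫ ψ) (hj f ψ hψ) ((EtCoh.push g).obj M) V v) t
  rw [hp, germ_natural_apply, unit_bc0 g f h e c M V t]
  refine (congrArg ((EtCore.gsec Q).map ((cVia aY e aX wa).app M))
    (ConcreteCategory.congr_hom (germ_alphaApp h gX sqX.w ((EtCoh.pull e).obj M) W v') _)).trans ?_
  show ((cVia aY e aX wa).app M).hom.app (op (EtCoh.top Q))
    (((EtCoh.pull aY).obj ((EtCoh.pull e).obj M)).obj.map (toFib ((EtCoh.bc h).obj W) σ' aY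
        (sigma'_w h gX sqX.w W v')).op
      (((EtCoh.pullPushAdj aY).unit.app ((EtCoh.pull e).obj M)).hom.app (op ((EtCoh.bc h).obj W))
        (((EtCoh.pull e).obj M).obj.map (sqHom c V).op
          (((EtCoh.pullPushAdj e).unit.app M).hom.app (op U) t)))) = _
  refine (congrArg (fun z => ((cVia aY e aX wa).app M).hom.app (op (EtCoh.top Q))
    (((EtCoh.pull aY).obj ((EtCoh.pull e).obj M)).obj.map (toFib ((EtCoh.bc h).obj W) σ' aY
        (sigma'_w h gX sqX.w W v')).op z))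
    (NatTrans.naturality_apply ((EtCoh.pullPushAdj aY).unit.app ((EtCoh.pull e).obj M)).hom (sqHom c V).op
      (((EtCoh.pullPushAdj e).unit.app M).hom.app (op U) t))).trans ?_
  show ((cVia aY e aX wa).app M).hom.app (op (EtCoh.top Q))
    (((EtCoh.pull aY).obj ((EtCoh.pull e).obj M)).obj.map (toFib ((EtCoh.bc h).obj W) σ' aY
        (sigma'_w h gX sqX.w W v')).op
      (((EtCoh.pull aY).obj ((EtCoh.pull e).obj M)).obj.map ((EtCoh.bc aY).map (sqHom c V)).op _)) = _
  rw [← ConcreteCategory.comp_apply, ← Functor.map_comp, ← op_comp,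
    toFib_map (sqHom c V) σ' τ aY (sigma'_w h gX sqX.w W v') hτ rfl]
  refine (NatTrans.naturality_apply ((cVia aY e aX wa).app M).hom _ _).trans ?_
  refine (congrArg _ (unit_cVia aY e aX wa M U t)).trans ?_
  rw [← ConcreteCategory.comp_apply, ← Functor.map_comp, ← op_comp, toFib_comp aY e aX wa U τ hτ σ hσ rfl]
  exact (fun (σ₁ σ₂ : Q ⟶ U.left) (h₁ : σ₁ ≫ U.hom = aX) (h₂ : σ₂ ≫ U.hom = aX) (e₁₂ : σ₁ = σ₂) => by
    subst e₁₂; rfl :
    ∀ (σ₁ σ₂ : Q ⟶ U.left) (h₁ : σ₁ ≫ U.hom = aX) (h₂ : σ₂ ≫ U.hom = aX), σ₁ = σ₂ →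
      ((EtCoh.pull aX).obj M).obj.map (toFib U σ₁ aX h₁).op
          (((EtCoh.pullPushAdj aX).unit.app M).hom.app (op U) t) =
        ((EtCoh.pull aX).obj M).obj.map (toFib U σ₂ aX h₂).op
          (((EtCoh.pullPushAdj aX).unit.app M).hom.app (op U) t)) σ _ hσ hS key

include CS sqS wm hm in
/-- The two families agree. -/
theorem fam_eq (i : ℕ) : bcFam g f h e c.w gS (closedPt RX ≫ ψ) (hj f ψ hψ) sqX CX aX wa i =
    (isoStk g sqS CS i).hom ≫ viaFam m aS aX wm i := by
  refine eq_of_zero (stkDelta_effaceable g) _ (fun i => (isoStk g sqS CS i).hom ≫ viaFam m aS aX wm i)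
    (bcFam_comm g f h e c.w gS (closedPt RX ≫ ψ) (hj f ψ hψ) sqX CX aX wa) (fun {U} hU j => ?_)
    (zero_eq g f h e c ψ hψ sqX CX aX wa sqS CS m wm hm) i
  show _ ≫ (isoStk g sqS CS (j + 1)).hom.app U.X₁ ≫ _ = (_ ≫ _) ≫ _
  rw [reassoc_of% (isoStk_delta g sqS CS hU j), viaFam_comm m aS aX wm hU j, Category.assoc]

end Main

end EtBcQLib
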