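/-
The base change morphism is bijective exactly when pullback between the fibres over strict henselisations is.
-/
import Groth.Agent.EtBcQLib.Zero
import Groth.Agent.EtShLib.Stalk
import Groth.Prelude.Def_Hens2
import Groth.Agent.S0537
import Groth.Agent.EtRpushStalkLib.Exists

set_option autoImplicit false
set_option linter.all false
set_option backward.isDefEq.respectTransparency false
set_option backward.isDefEq.respectTransparency.types false
set_option synthInstance.maxHeartbeats 400000
set_option maxHeartbeats 1600000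

universe u

open CategoryTheory CategoryTheory.Limits AlgebraicGeometry Opposite CategoryTheory.Abelian
open Groth.Agent.EtShLib EtRpushStalkLib

noncomputable section

namespace EtBcQLib

attribute [local instance] EtSliceLib.pullExact

theorem closedPt_base (R : Type u) [CommRing R] [HenselianLocalRing R] [IsSepClosed (IsLocalRing.ResidueField R)] :
    (closedPt R).base default = IsLocalRing.closedPoint R :=
  (congrArg _ (Subsingleton.elim _ _)).trans (IsLocalRing.comap_closedPoint (IsLocalRing.residue R))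

section Stalk

variable {X S T Y : Scheme.{u}} (g : T ⟶ S) [QuasiCompact g] [QuasiSeparated g] (f : X ⟶ S) (h : Y ⟶ X)
  [QuasiCompact h] [QuasiSeparated h] (e : Y ⟶ T) (c : IsPullback e h g f) [PreservesFiniteLimits (EtCoh.pull e)]
  {RS : Type u} [CommRing RS] [HenselianLocalRing RS] [IsSepClosed (IsLocalRing.ResidueField RS)]
  {gS : Spec (CommRingCat.of RS) ⟶ S}
  {RX : Type u} [CommRing RX] [HenselianLocalRing RX] [IsSepClosed (IsLocalRing.ResidueField RX)]
  {gX : Spec (CommRingCat.of RX) ⟶ X} (ψ : Spec (CommRingCat.of RX) ⟶ Spec (CommRingCat.of RS))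
  (hψ : ψ ≫ gS = gX ≫ f) (hc : ψ.base (IsLocalRing.closedPoint RX) = IsLocalRing.closedPoint RS)
  {Q : Scheme.{u}} {bX : Q ⟶ Spec (CommRingCat.of RX)} {aX : Q ⟶ T} (sqX : IsPullback aX bX g (gX ≫ f))
  (CX : Chart gX) {P : Scheme.{u}} {aS : P ⟶ T} {bS : P ⟶ Spec (CommRingCat.of RS)}
  (sqS : IsPullback aS bS g gS) (CS : Chart gS)
  (m : Q ⟶ P) (wm : m ≫ aS = aX) (hm : m ≫ bS = bX ≫ ψ) [PreservesFiniteLimits (EtCoh.pull m)]

include hψ hc sqX CX sqS CS wm hm in
/-- The stalk of the base change morphism is bijective exactly when pullback between the fibres is. -/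
theorem bijective_via_iff (F : EtCoh.Ab T) (q : ℕ) :
    Function.Bijective (EtCore.HpullVia m aS aX wm F q) ↔
      IsIso ((stk (A := AddCommGrpCat.{u + 1}) (closedPt RX ≫ gX)).map (EtBC.bcQ g f h e c.w q F)) := by
  let aY : Q ⟶ Y := c.lift aX (bX ≫ gX) (by rw [sqX.w, Category.assoc])
  have wa : aY ≫ e = aX := c.lift_fst _ _ _
  have hY : aY ≫ h = bX ≫ gX := c.lift_snd _ _ _
  have sqY : IsPullback aY bX h gX := IsPullback.of_right (by rw [wa]; exact sqX) hY c
  have E := congrArg (fun t : (stkDelta g gS).F q ⟶ (hDelta aX).F q => t.app F)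
    (fam_eq g f h e c ψ hψ sqY CX aX wa sqS CS m wm hm q)
  haveI : IsIso (pi f gS (closedPt RX ≫ gX) (closedPt RX ≫ ψ) (hj f ψ hψ)) :=
    isIso_pi f gS (closedPt RX ≫ gX) (closedPt RX ≫ ψ) (hj f ψ hψ) (by
      show ψ.base ((closedPt RX).base default) = _
      rw [closedPt_base, hc])
  have hl : IsIso ((viaFam m aS aX wm q).app F) ↔
      IsIso ((stk (A := AddCommGrpCat.{u + 1}) (closedPt RX ≫ gX)).map (EtBC.bcQ g f h e c.w q F)) := by
    have h1 : IsIso ((bcFam g f h e c.w gS (closedPt RX ≫ ψ) (hj f ψ hψ) sqY CX aX wa q).app F) ↔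
        IsIso ((stk (A := AddCommGrpCat.{u + 1}) (closedPt RX ≫ gX)).map (EtBC.bcQ g f h e c.w q F)) := by
      show IsIso ((pi f gS _ _ _).app ((EtCoh.Rpush g q).obj F) ≫ (stk _).map _ ≫ (isoStk h sqY CX q).hom.app _ ≫
        (extFunctorObj _ q).map _) ↔ _
      rw [isIso_comp_left_iff]
      haveI : IsIso ((cVia aY e aX wa).app F) := inferInstance
      exact isIso_comp_right_iff _ _
    rw [← h1, E, NatTrans.comp_app, isIso_comp_left_iff]
  rw [← hl]
  exact (ConcreteCategory.isIso_iff_bijective ((viaFam m aS aX wm q).app F)).symm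

end Stalk

section Exists

variable {X S : Scheme.{u}} (f : X ⟶ S)

theorem specOf_comp (x : X) (RS : Type u) [CommRing RS] [Algebra (S.presheaf.stalk (f.base x)) RS]
    (RX : Type u) [CommRing RX] [Algebra (X.presheaf.stalk x) RX] (ψ : RS →+* RX)
    (hψ : ψ.comp (algebraMap (S.presheaf.stalk (f.base x)) RS) =
      (algebraMap (X.presheaf.stalk x) RX).comp (f.stalkMap x).hom) :
    Spec.map (CommRingCat.ofHom ψ) ≫ Hens2.specOf S (f.base x) RS = Hens2.specOf X x RX ≫ f := by
  show _ ≫ Spec.map _ ≫ _ = (_ ≫ _) ≫ _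
  rw [← Category.assoc, ← Spec.map_comp, Category.assoc, ← Scheme.SpecMap_stalkMap_fromSpecStalk f (x := x),
    ← Category.assoc, ← Spec.map_comp]
  exact congrArg (fun r => Spec.map r ≫ _) (CommRingCat.hom_ext hψ)

/-- A local map between strict henselisations over a morphism of schemes. -/
theorem exists_shHom (x : X) (RS : Type u) [CommRing RS] [IsLocalRing RS]
    [Algebra (S.presheaf.stalk (f.base x)) RS] [IsLocalHom (algebraMap (S.presheaf.stalk (f.base x)) RS)]
    [hS : Hensel.IsStrictHenselization (S.presheaf.stalk (f.base x)) RS]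
    (RX : Type u) [CommRing RX] [IsLocalRing RX] [Algebra (X.presheaf.stalk x) RX]
    [IsLocalHom (algebraMap (X.presheaf.stalk x) RX)] [hX : Hensel.IsStrictHenselization (X.presheaf.stalk x) RX] :
    ∃ ψ : RS →+* RX, IsLocalHom ψ ∧ ψ.comp (algebraMap (S.presheaf.stalk (f.base x)) RS) =
      (algebraMap (X.presheaf.stalk x) RX).comp (f.stalkMap x).hom := by
  haveI : HenselianLocalRing RX := hX.henselian
  let φ : S.presheaf.stalk (f.base x) →+* RX := (algebraMap (X.presheaf.stalk x) RX).comp (f.stalkMap x).hom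
  haveI : IsLocalHom φ := RingHom.isLocalHom_comp _ _
  haveI := hS.isSepClosure
  haveI : IsSepClosed (IsLocalRing.ResidueField RX) := hX.isSepClosure.sep_closed
  haveI : Algebra.IsSeparable (IsLocalRing.ResidueField (S.presheaf.stalk (f.base x))) (IsLocalRing.ResidueField RS) :=
    hS.isSepClosure.separable
  letI : Algebra (IsLocalRing.ResidueField (S.presheaf.stalk (f.base x))) (IsLocalRing.ResidueField RX) :=
    (IsLocalRing.ResidueField.map φ).toAlgebra
  let τ := (IsSepClosed.lift (M := IsLocalRing.ResidueField RX) (L := IsLocalRing.ResidueField RS)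
    (K := IsLocalRing.ResidueField (S.presheaf.stalk (f.base x))))
  have hτ : τ.toRingHom.comp (IsLocalRing.ResidueField.map (algebraMap (S.presheaf.stalk (f.base x)) RS)) =
      IsLocalRing.ResidueField.map φ := τ.comp_algebraMap
  obtain ⟨ψ, ⟨h1, h2⟩, -⟩ := hS.universal RX φ τ.toRingHom hτ
  refine ⟨ψ, ⟨fun a ha => ?_⟩, h1⟩
  by_contra hc
  have h3 : IsLocalRing.residue RS a = 0 := (IsLocalRing.residue_eq_zero_iff a).2 hc
  exact (IsLocalRing.mem_maximalIdeal (ψ a)).1
    ((IsLocalRing.residue_eq_zero_iff (ψ a)).1 ((h2 a).trans (by rw [h3, map_zero]))) ha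

end Exists

section Global

variable {X S T Y : Scheme.{u}} (f : X ⟶ S) (g : T ⟶ S) [QuasiCompact g] [QuasiSeparated g] (h : Y ⟶ X) (e : Y ⟶ T)
  (c : IsPullback e h g f) [PreservesFiniteLimits (EtCoh.pull e)] (F : EtCoh.Ab T) (q : ℕ)

include c in
/-- The criterion at one point. -/
theorem bijective_via_iff_point (x : X) (RS : Type u) [CommRing RS] [IsLocalRing RS]
    [Algebra (S.presheaf.stalk (f.base x)) RS] [IsLocalHom (algebraMap (S.presheaf.stalk (f.base x)) RS)]
    [hS : Hensel.IsStrictHenselization (S.presheaf.stalk (f.base x)) RS]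
    (RX : Type u) [CommRing RX] [IsLocalRing RX] [Algebra (X.presheaf.stalk x) RX]
    [IsLocalHom (algebraMap (X.presheaf.stalk x) RX)] [hX : Hensel.IsStrictHenselization (X.presheaf.stalk x) RX]
    (ψ : RS →+* RX) [IsLocalHom ψ]
    (hψ : ψ.comp (algebraMap (S.presheaf.stalk (f.base x)) RS) =
      (algebraMap (X.presheaf.stalk x) RX).comp (f.stalkMap x).hom)
    {P Q : Scheme.{u}} (aS : P ⟶ T) (bS : P ⟶ Spec (CommRingCat.of RS))
    (sqS : IsPullback aS bS g (Hens2.specOf S (f.base x) RS))
    (aX : Q ⟶ T) (bX : Q ⟶ Spec (CommRingCat.of RX)) (sqX : IsPullback aX bX g (Hens2.specOf X x RX ≫ f))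
    (m : Q ⟶ P) (w : m ≫ aS = aX) (hm : m ≫ bS = bX ≫ Spec.map (CommRingCat.ofHom ψ))
    [PreservesFiniteLimits (EtCoh.pull m)] :
    ∃ (Ω : Type u) (_ : Field Ω) (_ : IsSepClosed Ω) (ξ : Spec (CommRingCat.of Ω) ⟶ X), ξ.base default = x ∧
      (Function.Bijective (EtCore.HpullVia m aS aX w F q) ↔
        IsIso ((stk (A := AddCommGrpCat.{u + 1}) ξ).map (EtBC.bcQ g f h e c.w q F))) := by
  haveI : HenselianLocalRing RS := hS.henselian
  haveI : HenselianLocalRing RX := hX.henselian
  haveI : IsSepClosed (IsLocalRing.ResidueField RS) := hS.isSepClosure.sep_closed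
  haveI : IsSepClosed (IsLocalRing.ResidueField RX) := hX.isSepClosure.sep_closed
  haveI : QuasiCompact h := MorphismProperty.of_isPullback c ‹QuasiCompact g›
  haveI : QuasiSeparated h := MorphismProperty.of_isPullback c ‹QuasiSeparated g›
  obtain ⟨CS⟩ := exists_chart (f.base x) RS
  obtain ⟨CX⟩ := exists_chart x RX
  refine ⟨_, inferInstance, inferInstance, closedPt RX ≫ Hens2.specOf X x RX, ?_,
    bijective_via_iff g f h e c (Spec.map (CommRingCat.ofHom ψ)) (specOf_comp f x RS RX ψ hψ) ?_ sqX CX sqS CS m w hm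
      F q⟩
  · show (X.fromSpecStalk x).base ((Spec.map _).base ((closedPt RX).base default)) = x
    rw [closedPt_base]
    exact (congrArg (X.fromSpecStalk x).base
      (IsLocalRing.comap_closedPoint (algebraMap (X.presheaf.stalk x) RX))).trans Scheme.fromSpecStalk_closedPoint
  · exact IsLocalRing.comap_closedPoint ψ

include c in
/-- The base change morphism is bijective iff pullback between the fibres over strict henselisations is. -/
theorem isIso_bcQ_iff :
    (∀ (x : X) (RS : Type u) [CommRing RS] [IsLocalRing RS] [Algebra (S.presheaf.stalk (f.base x)) RS]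
      [IsLocalHom (algebraMap (S.presheaf.stalk (f.base x)) RS)] [Hensel.IsStrictHenselization (S.presheaf.stalk (f.base x)) RS]
      (RX : Type u) [CommRing RX] [IsLocalRing RX] [Algebra (X.presheaf.stalk x) RX]
      [IsLocalHom (algebraMap (X.presheaf.stalk x) RX)] [Hensel.IsStrictHenselization (X.presheaf.stalk x) RX]
      (ψ : RS →+* RX) [IsLocalHom ψ],
      ψ.comp (algebraMap (S.presheaf.stalk (f.base x)) RS) = (algebraMap (X.presheaf.stalk x) RX).comp (f.stalkMap x).hom →
      ∀ (PS PX : Scheme.{u}) (aS : PS ⟶ T) (bS : PS ⟶ Spec (CommRingCat.of RS))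
        (_ : IsPullback aS bS g (Hens2.specOf S (f.base x) RS))
        (aX : PX ⟶ T) (bX : PX ⟶ Spec (CommRingCat.of RX))
        (_ : IsPullback aX bX g (Hens2.specOf X x RX ≫ f))
        (m : PX ⟶ PS) (w : m ≫ aS = aX), m ≫ bS = bX ≫ Spec.map (CommRingCat.ofHom ψ) →
        ∀ [PreservesFiniteLimits (EtCoh.pull m)], Function.Bijective (EtCore.HpullVia m aS aX w F q)) ↔
    IsIso (EtBC.bcQ g f h e c.w q F) := by
  constructor
  · intro H
    refine (isIso_iff_stalks _).2 fun Ω _ _ ξ => ?_
    let x := ξ.base default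
    obtain ⟨RS, _, _, _, _, _⟩ := Groth.Agent.S0537.result (S.presheaf.stalk (f.base x))
    obtain ⟨RX, _, _, _, _, _⟩ := Groth.Agent.S0537.result (X.presheaf.stalk x)
    obtain ⟨ψ, hl, hψ⟩ := exists_shHom f x RS RX
    haveI := hl
    let gS := Hens2.specOf S (f.base x) RS
    let gX' := Hens2.specOf X x RX ≫ f
    have hw : pullback.fst g gX' ≫ g = (pullback.snd g gX' ≫ Spec.map (CommRingCat.ofHom ψ)) ≫ gS := by
      rw [Category.assoc, specOf_comp f x RS RX ψ hψ]
      exact pullback.condition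
    let m : pullback g gX' ⟶ pullback g gS := pullback.lift (pullback.fst g gX') _ hw
    have wm : m ≫ pullback.fst g gS = pullback.fst g gX' := pullback.lift_fst _ _ _
    have hm : m ≫ pullback.snd g gS = pullback.snd g gX' ≫ Spec.map (CommRingCat.ofHom ψ) := pullback.lift_snd _ _ _
    obtain ⟨Ω', _, _, ξ', hξ', hiff⟩ := bijective_via_iff_point f g h e c F q x RS RX ψ hψ
      _ _ (IsPullback.of_hasPullback g gS) _ _ (IsPullback.of_hasPullback g gX') m wm hm
    haveI := hiff.1 (H x RS RX ψ hψ _ _ _ _ (IsPullback.of_hasPullback g gS) _ _ (IsPullback.of_hasPullback g gX') m wm hm)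
    obtain ⟨φ⟩ := nonempty_stk_iso_of_eq (A := AddCommGrpCat.{u + 1}) (ξ := ξ') (ξ' := ξ) hξ'.symm
    exact (NatIso.isIso_map_iff φ (EtBC.bcQ g f h e c.w q F)).1 inferInstance
  · intro H x RS _ _ _ _ _ RX _ _ _ _ _ ψ _ hψ PS PX aS bS sqS aX bX sqX m w hm _
    obtain ⟨Ω', _, _, ξ', hξ', hiff⟩ := bijective_via_iff_point f g h e c F q x RS RX ψ hψ aS bS sqS aX bX sqX m w hm
    exact hiff.2 inferInstance

end Global

end EtBcQLib
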