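/-
A morphism of complexes over a morphism of schemes and the maps it induces on the cohomology of cycles, boundaries
and homology sheaves.
-/
import Groth.Agent.EtBcQLib.Homotopy
import Groth.Agent.EulerLib.Basic
import Groth.Agent.EtContLib.Cohom
import Groth.Prelude.Def_EtBC2

set_option autoImplicit false
set_option linter.all false
set_option backward.isDefEq.respectTransparency false
set_option backward.isDefEq.respectTransparency.types false
set_option synthInstance.maxHeartbeats 400000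
set_option maxHeartbeats 1000000

universe u

open CategoryTheory CategoryTheory.Limits AlgebraicGeometry Opposite CategoryTheory.Abelian HomologicalComplex
open Groth.Agent

noncomputable section

namespace EtBcQLib

attribute [local instance] EtSliceLib.pullExact

/-- Postcomposition with a morphism of sheaves. -/
abbrev pc {A : Scheme.{u}} {F G : EtCoh.Ab A} (φ : F ⟶ G) (m : ℕ) : EtCoh.H A F m →+ EtCoh.H A G m :=
  (Ext.mk₀ φ).postcomp _ (add_zero m)

/-- The connecting map. -/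
abbrev dl {A : Scheme.{u}} {F G H : EtCoh.Ab A} {f : F ⟶ G} {g : G ⟶ H} {w : f ≫ g = 0}
    (hS : (ShortComplex.mk f g w).ShortExact) (m : ℕ) : EtCoh.H A H m →+ EtCoh.H A F (m + 1) :=
  hS.extClass.postcomp _ rfl

theorem pc_comp {A : Scheme.{u}} {F G G' : EtCoh.Ab A} (φ : F ⟶ G) (ψ : G ⟶ G') (m : ℕ) (x : EtCoh.H A F m) :
    pc ψ m (pc φ m x) = pc (φ ≫ ψ) m x := by
  show (x.comp (Ext.mk₀ φ) (add_zero m)).comp (Ext.mk₀ ψ) (add_zero m) = x.comp (Ext.mk₀ (φ ≫ ψ)) (add_zero m)
  rw [Ext.comp_assoc_of_second_deg_zero, Ext.mk₀_comp_mk₀]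

theorem pc_zero {A : Scheme.{u}} (F G : EtCoh.Ab A) (m : ℕ) (x : EtCoh.H A F m) : pc (0 : F ⟶ G) m x = 0 := by
  show x.comp (Ext.mk₀ (0 : F ⟶ G)) (add_zero m) = 0
  rw [Ext.mk₀_zero, Ext.comp_zero]

theorem pc_bijective {A : Scheme.{u}} {F G : EtCoh.Ab A} (φ : F ⟶ G) [IsIso φ] (m : ℕ) :
    Function.Bijective (pc φ m) := by
  refine Function.bijective_iff_has_inverse.2 ⟨pc (inv φ) m, fun x => ?_, fun x => ?_⟩
  · rw [pc_comp, IsIso.hom_inv_id]
    exact Ext.comp_mk₀_id x
  · rw [pc_comp, IsIso.inv_hom_id]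
    exact Ext.comp_mk₀_id x

variable {A B : Scheme.{u}} (u : A ⟶ B)

/-- The map on cohomology over `u` given by a map to a direct image. -/
abbrev rho {F : EtCoh.Ab B} {M : EtCoh.Ab A} (α : F ⟶ (EtCoh.push u).obj M) (m : ℕ) :
    EtCoh.H B F m →+ EtCoh.H A M m :=
  EtLim.HpullThen u F (EtContLib.adjL u α) m

theorem rho_pc {F F' : EtCoh.Ab B} {M M' : EtCoh.Ab A} (α : F ⟶ (EtCoh.push u).obj M)
    (α' : F' ⟶ (EtCoh.push u).obj M') (φ : F ⟶ F') (ψ : M ⟶ M') (h : φ ≫ α' = α ≫ (EtCoh.push u).map ψ)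
    (m : ℕ) (x : EtCoh.H B F m) : rho u α' m (pc φ m x) = pc ψ m (rho u α m x) :=
  EtContLib.HpullThen_postcomp u α α' φ ψ h m x

section Cx

variable {K : CochainComplex (EtCoh.Ab B) ℕ} {L : CochainComplex (EtCoh.Ab A) ℕ}
  (χ : K ⟶ ((EtCoh.push u).mapHomologicalComplex _).obj L)

/-- The map on cycles. -/
def aZ (i : ℕ) : K.cycles i ⟶ (EtCoh.push u).obj (L.cycles i) :=
  cyclesMap χ i ≫ RDer.cyclesComparison (EtCoh.push u) L i

/-- The map on homology sheaves. -/
def aH (i : ℕ) : K.homology i ⟶ (EtCoh.push u).obj (L.homology i) :=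
  homologyMap χ i ≫ RDer.homologyComparison (EtCoh.push u) L i

theorem iCycles_χ (i : ℕ) : K.iCycles i ≫ χ.f i = aZ u χ i ≫ (EtCoh.push u).map (L.iCycles i) := by
  rw [aZ, Category.assoc, RDer.cyclesComparison_i, cyclesMap_i]

theorem π_aH (i : ℕ) : K.homologyπ i ≫ aH u χ i = aZ u χ i ≫ (EtCoh.push u).map (L.homologyπ i) := by
  rw [aH, aZ, homologyπ_naturality_assoc, RDer.homologyπ_homologyComparison, Category.assoc]

/-- The map on boundaries. -/
def aQ (i : ℕ) : EulerLib.Q K i ⟶ (EtCoh.push u).obj (EulerLib.Q L i) :=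
  cokernel.desc _ (χ.f i ≫ (EtCoh.push u).map (cokernel.π (L.iCycles i))) (by
    rw [← Category.assoc, iCycles_χ, Category.assoc, ← Functor.map_comp, cokernel.condition,
      Functor.map_zero, comp_zero])

theorem π_aQ (i : ℕ) :
    cokernel.π (K.iCycles i) ≫ aQ u χ i = χ.f i ≫ (EtCoh.push u).map (cokernel.π (L.iCycles i)) :=
  cokernel.π_desc _ _ _

theorem qToCycles_aZ (i j : ℕ) (hij : i + 1 = j) :
    EulerLib.qToCycles K i j ≫ aZ u χ j = aQ u χ i ≫ (EtCoh.push u).map (EulerLib.qToCycles L i j) := by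
  haveI : Mono ((EtCoh.push u).map (L.iCycles j)) := CategoryTheory.preserves_mono_of_preservesLimit _ _
  rw [← cancel_mono ((EtCoh.push u).map (L.iCycles j)), ← cancel_epi (cokernel.π (K.iCycles i)),
    Category.assoc, Category.assoc, ← iCycles_χ, cokernel.π_desc_assoc, toCycles_i_assoc, reassoc_of% (π_aQ u χ i),
    ← Functor.map_comp, ← Functor.map_comp, cokernel.π_desc_assoc, toCycles_i]
  exact (χ.comm i j).symm

theorem rho_toCycles (i j : ℕ) (hij : i + 1 = j) (m : ℕ) (x : EtCoh.H B (K.X i) m) :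
    rho u (aZ u χ j) m (pc (K.toCycles i j) m x) = pc (L.toCycles i j) m (rho u (χ.f i) m x) := by
  refine rho_pc u _ _ _ _ ?_ m x
  rw [show K.toCycles i j = cokernel.π (K.iCycles i) ≫ EulerLib.qToCycles K i j from (cokernel.π_desc _ _ _).symm,
    show L.toCycles i j = cokernel.π (L.iCycles i) ≫ EulerLib.qToCycles L i j from (cokernel.π_desc _ _ _).symm,
    Category.assoc, qToCycles_aZ u χ i j hij, reassoc_of% (π_aQ u χ i), ← Functor.map_comp]

theorem rho_π (i : ℕ) (m : ℕ) (x : EtCoh.H B (K.cycles i) m) :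
    rho u (aH u χ i) m (pc (K.homologyπ i) m x) = pc (L.homologyπ i) m (rho u (aZ u χ i) m x) :=
  rho_pc u _ _ _ _ (π_aH u χ i) m x

theorem rho_q (i j : ℕ) (hij : i + 1 = j) (m : ℕ) (x : EtCoh.H B (EulerLib.Q K i) m) :
    rho u (aZ u χ j) m (pc (EulerLib.qToCycles K i j) m x) =
      pc (EulerLib.qToCycles L i j) m (rho u (aQ u χ i) m x) :=
  rho_pc u _ _ _ _ (qToCycles_aZ u χ i j hij) m x

theorem rho_cokernelπ (i : ℕ) (m : ℕ) (x : EtCoh.H B (K.X i) m) :
    rho u (aQ u χ i) m (pc (cokernel.π (K.iCycles i)) m x) =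
      pc (cokernel.π (L.iCycles i)) m (rho u (χ.f i) m x) :=
  rho_pc u _ _ _ _ (π_aQ u χ i) m x

/-- Compatibility with the connecting map of cycles in terms. -/
theorem rho_dl_cycles (i m : ℕ) (x : EtCoh.H B (EulerLib.Q K i) m) :
    rho u (aZ u χ i) (m + 1) (dl (EulerLib.shortExact_cycles K i) m x) =
      dl (EulerLib.shortExact_cycles L i) m (rho u (aQ u χ i) m x) :=
  EtContLib.HpullThen_delta u (EulerLib.shortExact_cycles K i) (EulerLib.shortExact_cycles L i)
    (aZ u χ i) (χ.f i) (aQ u χ i) (iCycles_χ u χ i) (π_aQ u χ i) x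

/-- Compatibility with the connecting map of homology. -/
theorem rho_dl_homology (i j : ℕ) (hij : i + 1 = j) (m : ℕ) (x : EtCoh.H B (K.homology j) m) :
    rho u (aQ u χ i) (m + 1) (dl (EulerLib.shortExact_homology K i j hij) m x) =
      dl (EulerLib.shortExact_homology L i j hij) m (rho u (aH u χ j) m x) :=
  EtContLib.HpullThen_delta u (EulerLib.shortExact_homology K i j hij) (EulerLib.shortExact_homology L i j hij)
    (aQ u χ i) (aZ u χ j) (aH u χ j) (qToCycles_aZ u χ i j hij) (π_aH u χ j) x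

end Cx

end EtBcQLib
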