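/-
Comparison of the cohomology of two complexes of acyclic sheaves from a comparison of their homology sheaves:
bijectivity in low degrees, injectivity in the next one, and detection of the range.
-/
import Groth.Agent.EtBcQLib.Cx

set_option autoImplicit false
set_option linter.all false
set_option backward.isDefEq.respectTransparency false
set_option backward.isDefEq.respectTransparency.types false
set_option synthInstance.maxHeartbeats 400000
set_option maxHeartbeats 1000000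

universe u

open CategoryTheory CategoryTheory.Limits AlgebraicGeometry Opposite CategoryTheory.Abelian HomologicalComplex
open Groth.Agent

noncomputable section

namespace EtBcQLib

attribute [local instance] EtSliceLib.pullExact

section Seq

variable {A : Scheme.{u}} {F G H : EtCoh.Ab A} {f : F ⟶ G} {g : G ⟶ H} {w : f ≫ g = 0}
  (hS : (ShortComplex.mk f g w).ShortExact)

include hS

theorem exists_of_g_eq_zero {m : ℕ} (x : EtCoh.H A G m) (h : pc g m x = 0) : ∃ y, pc f m y = x :=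
  Ext.covariant_sequence_exact₂ _ hS x h

theorem exists_of_f_eq_zero {m : ℕ} (x : EtCoh.H A F (m + 1)) (h : pc f (m + 1) x = 0) : ∃ y, dl hS m y = x :=
  Ext.covariant_sequence_exact₁ _ hS x h rfl

theorem exists_of_dl_eq_zero {m : ℕ} (x : EtCoh.H A H m) (h : dl hS m x = 0) : ∃ y, pc g m y = x :=
  Ext.covariant_sequence_exact₃ _ hS x rfl h

theorem f_dl {m : ℕ} (x : EtCoh.H A H m) : pc f (m + 1) (dl hS m x) = 0 := by
  show (x.comp hS.extClass rfl).comp (Ext.mk₀ f) (add_zero (m + 1)) = 0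
  rw [Ext.comp_assoc (a₂₃ := 1) _ _ _ rfl (add_zero 1) (by omega)]
  exact (congrArg (fun z => Ext.comp x z rfl) hS.extClass_comp).trans (Ext.comp_zero x _ _ _ _)

theorem dl_g {m : ℕ} (x : EtCoh.H A G m) : dl hS m (pc g m x) = 0 := by
  show (x.comp (Ext.mk₀ g) (add_zero m)).comp hS.extClass rfl = 0
  rw [Ext.comp_assoc (a₂₃ := 1) _ _ _ (add_zero m) (zero_add 1) (by omega)]
  exact (congrArg (fun z => Ext.comp x z rfl) hS.comp_extClass).trans (Ext.comp_zero x _ _ _ _)

theorem injective_f_zero : Function.Injective (pc f 0) := by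
  haveI : Mono f := hS.mono_f
  refine (injective_iff_map_eq_zero _).2 fun x hx => ?_
  obtain ⟨φ, rfl⟩ := EtContLib.exists_mk₀ x
  have h : Ext.mk₀ (φ ≫ f) = 0 := (Ext.mk₀_comp_mk₀ _ _).symm.trans hx
  rw [Ext.mk₀_eq_zero_iff, ← zero_comp (f := f), cancel_mono] at h
  rw [h, Ext.mk₀_zero]

omit hS in
theorem g_f (w : f ≫ g = 0) {m : ℕ} (x : EtCoh.H A F m) : pc g m (pc f m x) = 0 := by
  rw [pc_comp, w, pc_zero]

end Seq

variable {A B : Scheme.{u}} (u : A ⟶ B) {K : CochainComplex (EtCoh.Ab B) ℕ} {L : CochainComplex (EtCoh.Ab A) ℕ}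
  (χ : K ⟶ ((EtCoh.push u).mapHomologicalComplex _).obj L)

/-- Acyclicity of the terms. -/
def Acy {A : Scheme.{u}} (K : CochainComplex (EtCoh.Ab A) ℕ) : Prop :=
  ∀ i m : ℕ, ∀ x : EtCoh.H A (K.X i) (m + 1), x = 0

/-- The comparison of the cohomology of the homology sheaves, up to total degree `n`. -/
def HCmp (n : ℕ) : Prop :=
  ∀ i m : ℕ, (i + m ≤ n → Function.Bijective (rho u (aH u χ i) m)) ∧
    (i + m = n + 1 → Function.Injective (rho u (aH u χ i) m))

variable {u χ} {n : ℕ} (hK : Acy K) (hL : Acy L) (hH : HCmp u χ n)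

include hH in
theorem exists_rho_H {i m : ℕ} (h : i + m ≤ n) (y : EtCoh.H A (L.homology i) m) :
    ∃ x, rho u (aH u χ i) m x = y :=
  ((hH i m).1 h).2 y

include hH in
theorem eq_zero_rho_H {i m : ℕ} (h : i + m ≤ n + 1) (x : EtCoh.H B (K.homology i) m)
    (hx : rho u (aH u χ i) m x = 0) : x = 0 := by
  rcases eq_or_lt_of_le h with h' | h'
  · exact (hH i m).2 h' (hx.trans (map_zero _).symm)
  · exact ((hH i m).1 (by omega)).1 (hx.trans (map_zero _).symm)

include hH in
theorem bijective_Z_zero (m : ℕ) (h : m ≤ n) : Function.Bijective (rho u (aZ u χ 0) m) := by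
  haveI : IsIso (K.homologyπ 0) := inferInstanceAs (IsIso (CochainComplex.isoHomologyπ₀ K).hom)
  haveI : IsIso (L.homologyπ 0) := inferInstanceAs (IsIso (CochainComplex.isoHomologyπ₀ L).hom)
  have e : (pc (L.homologyπ 0) m : _ → _) ∘ rho u (aZ u χ 0) m = rho u (aH u χ 0) m ∘ pc (K.homologyπ 0) m :=
    funext fun x => (rho_π u χ 0 m x).symm
  refine (Function.Bijective.of_comp_iff' (pc_bijective (L.homologyπ 0) m) _).1 ?_
  rw [e]
  exact ((hH 0 m).1 (by omega)).comp (pc_bijective (K.homologyπ 0) m)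

include hH in
theorem injective_Z_zero (m : ℕ) (h : m ≤ n + 1) : Function.Injective (rho u (aZ u χ 0) m) := by
  haveI : IsIso (K.homologyπ 0) := inferInstanceAs (IsIso (CochainComplex.isoHomologyπ₀ K).hom)
  refine (injective_iff_map_eq_zero _).2 fun x hx => ?_
  refine (pc_bijective (K.homologyπ 0) m).1 ?_
  rw [map_zero]
  exact eq_zero_rho_H hH (by omega) _ (by rw [rho_π, hx, map_zero])

include hK in
theorem dl_cycles_surjective (i m : ℕ) (x : EtCoh.H B (K.cycles i) (m + 1)) :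
    ∃ b, dl (EulerLib.shortExact_cycles K i) m b = x :=
  exists_of_f_eq_zero _ x (hK i m _)

include hK in
theorem dl_cycles_injective (i m : ℕ) (b : EtCoh.H B (EulerLib.Q K i) (m + 1))
    (h : dl (EulerLib.shortExact_cycles K i) (m + 1) b = 0) : b = 0 := by
  obtain ⟨y, rfl⟩ := exists_of_dl_eq_zero _ b h
  rw [hK i m y, map_zero]

/-- The bounds on the cohomology of the cycles in degree `i`. -/
def ZCmp (u : A ⟶ B) {K : CochainComplex (EtCoh.Ab B) ℕ} {L : CochainComplex (EtCoh.Ab A) ℕ}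
    (χ : K ⟶ ((EtCoh.push u).mapHomologicalComplex _).obj L) (n i : ℕ) : Prop :=
  ∀ m : ℕ, (i + (m + 1) ≤ n → Function.Surjective (rho u (aZ u χ i) (m + 1))) ∧
    (i + (m + 1) ≤ n + 1 → Function.Injective (rho u (aZ u χ i) (m + 1)))

include hK hL in
theorem Q_bound {i : ℕ} (P : ZCmp u χ n i) (m : ℕ) :
    (i + (m + 2) ≤ n → Function.Surjective (rho u (aQ u χ i) (m + 1))) ∧
      (i + (m + 2) ≤ n + 1 → Function.Injective (rho u (aQ u χ i) (m + 1))) := by
  refine ⟨fun h y => ?_, fun h => (injective_iff_map_eq_zero _).2 fun b hb => ?_⟩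
  · obtain ⟨w, hw⟩ := (P (m + 1)).1 h (dl (EulerLib.shortExact_cycles L i) (m + 1) y)
    obtain ⟨b, rfl⟩ := dl_cycles_surjective hK i (m + 1) w
    refine ⟨b, sub_eq_zero.1 (dl_cycles_injective hL i m _ ?_)⟩
    rw [map_sub, ← rho_dl_cycles, hw, sub_self]
  · refine dl_cycles_injective hK i m b ((P (m + 1)).2 h ?_)
    rw [rho_dl_cycles, hb, map_zero, map_zero]

include hK hL hH in
theorem Z_succ {i : ℕ} (P : ZCmp u χ n i) : ZCmp u χ n (i + 1) := by
  intro m
  have hS := EulerLib.shortExact_homology K i (i + 1) rfl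
  have hT := EulerLib.shortExact_homology L i (i + 1) rfl
  refine ⟨fun h y => ?_, fun h => (injective_iff_map_eq_zero _).2 fun z hz => ?_⟩
  · obtain ⟨x, hx⟩ := exists_rho_H hH (i := i + 1) (m := m + 1) h (pc (L.homologyπ (i + 1)) (m + 1) y)
    have h0 : dl hS (m + 1) x = 0 := by
      refine (Q_bound hK hL P (m + 1)).2 (by omega) ?_
      rw [rho_dl_homology u χ i (i + 1) rfl, hx, map_zero]
      exact dl_g hT y
    obtain ⟨z, hz⟩ := exists_of_dl_eq_zero hS x h0
    obtain ⟨b', hb'⟩ := exists_of_g_eq_zero hT (y - rho u (aZ u χ (i + 1)) (m + 1) z)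
      (by rw [map_sub, ← rho_π]; exact sub_eq_zero.2 (by rw [← hx, ← hz]))
    obtain ⟨b, hb⟩ := (Q_bound hK hL P m).1 (by omega) b'
    refine ⟨z + pc (EulerLib.qToCycles K i (i + 1)) (m + 1) b, ?_⟩
    rw [map_add, rho_q u χ i (i + 1) rfl, hb]
    exact (congrArg (rho u (aZ u χ (i + 1)) (m + 1) z + ·) hb').trans (add_sub_cancel _ _)
  · have h1 : pc (K.homologyπ (i + 1)) (m + 1) z = 0 :=
      eq_zero_rho_H hH h _ (by rw [rho_π, hz, map_zero])
    obtain ⟨b, rfl⟩ := exists_of_g_eq_zero hS z h1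
    obtain ⟨x', hx'⟩ := exists_of_f_eq_zero hT (rho u (aQ u χ i) (m + 1) b)
      ((rho_q u χ i (i + 1) rfl (m + 1) b).symm.trans hz)
    obtain ⟨x, rfl⟩ := exists_rho_H hH (i := i + 1) (m := m) (by omega) x'
    have h2 : b - dl hS m x = 0 := by
      refine (Q_bound hK hL P m).2 (by omega) ?_
      rw [map_sub, rho_dl_homology u χ i (i + 1) rfl, hx', sub_self, map_zero]
    rw [sub_eq_zero.1 h2]
    exact f_dl hS x

include hK hL hH in
theorem Z_cmp : ∀ i, ZCmp u χ n i
  | 0 => fun m => ⟨fun h => (bijective_Z_zero hH (m + 1) (by omega)).2, fun h => injective_Z_zero hH (m + 1) (by omega)⟩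
  | i + 1 => Z_succ hK hL hH (Z_cmp i)

/-- Every section of a cycle sheaf comes from the other complex up to boundaries. -/
theorem top_surjective {i : ℕ} (hK : Acy K) (hL : Acy L) (hH : HCmp u χ n) (h : i + 1 ≤ n)
    (y : EtCoh.H A (L.cycles (i + 1)) 0) :
    ∃ z k, y - rho u (aZ u χ (i + 1)) 0 z = pc (L.toCycles i (i + 1)) 0 k := by
  have hS := EulerLib.shortExact_homology K i (i + 1) rfl
  have hT := EulerLib.shortExact_homology L i (i + 1) rfl
  obtain ⟨x, hx⟩ := exists_rho_H hH (i := i + 1) (m := 0) h (pc (L.homologyπ (i + 1)) 0 y)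
  have h0 : dl hS 0 x = 0 := by
    refine (Q_bound hK hL (Z_cmp hK hL hH i) 0).2 (by omega) ?_
    rw [rho_dl_homology u χ i (i + 1) rfl, hx, map_zero]
    exact dl_g hT y
  obtain ⟨z, hz⟩ := exists_of_dl_eq_zero hS x h0
  obtain ⟨b', hb'⟩ := exists_of_g_eq_zero hT (y - rho u (aZ u χ (i + 1)) 0 z)
    (by rw [map_sub, ← rho_π]; exact sub_eq_zero.2 (by rw [← hx, ← hz]))
  obtain ⟨w, hw⟩ := (Z_cmp hK hL hH i 0).1 (by omega) (dl (EulerLib.shortExact_cycles L i) 0 b')
  obtain ⟨b, rfl⟩ := dl_cycles_surjective hK i 0 w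
  obtain ⟨k, hk⟩ := exists_of_dl_eq_zero (EulerLib.shortExact_cycles L i) (b' - rho u (aQ u χ i) 0 b)
    (by rw [map_sub, ← rho_dl_cycles, hw, sub_self])
  refine ⟨z + pc (EulerLib.qToCycles K i (i + 1)) 0 b, k, ?_⟩
  rw [map_add, rho_q u χ i (i + 1) rfl, ← sub_sub]
  refine (congrArg (· - pc (EulerLib.qToCycles L i (i + 1)) 0 (rho u (aQ u χ i) 0 b)) hb'.symm).trans ?_
  refine (map_sub (pc (EulerLib.qToCycles L i (i + 1)) 0) _ _).symm.trans ?_
  refine (congrArg (pc (EulerLib.qToCycles L i (i + 1)) 0) hk.symm).trans ?_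
  rw [pc_comp, cokernel.π_desc]

/-- A section of a cycle sheaf which becomes a boundary is a boundary. -/
theorem top_injective {i : ℕ} (hK : Acy K) (hL : Acy L) (hH : HCmp u χ n) (h : i + 1 ≤ n + 1)
    (z : EtCoh.H B (K.cycles (i + 1)) 0) (k : EtCoh.H A (L.X i) 0)
    (hz : rho u (aZ u χ (i + 1)) 0 z = pc (L.toCycles i (i + 1)) 0 k) :
    ∃ k₀, pc (K.toCycles i (i + 1)) 0 k₀ = z := by
  have hS := EulerLib.shortExact_homology K i (i + 1) rfl
  have hT := EulerLib.shortExact_homology L i (i + 1) rfl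
  have hk : pc (L.toCycles i (i + 1)) 0 k =
      pc (EulerLib.qToCycles L i (i + 1)) 0 (pc (cokernel.π (L.iCycles i)) 0 k) := by
    rw [pc_comp, cokernel.π_desc]
  have h1 : pc (K.homologyπ (i + 1)) 0 z = 0 :=
    eq_zero_rho_H hH (by omega) _ (by rw [rho_π, hz, hk]; exact g_f (EulerLib.qToCycles_π L _ _) _)
  obtain ⟨b, rfl⟩ := exists_of_g_eq_zero hS z h1
  have h2 : rho u (aQ u χ i) 0 b = pc (cokernel.π (L.iCycles i)) 0 k :=
    injective_f_zero hT ((rho_q u χ i (i + 1) rfl 0 b).symm.trans (hz.trans hk))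
  have h3 : dl (EulerLib.shortExact_cycles K i) 0 b = 0 := by
    refine (Z_cmp hK hL hH i 0).2 (by omega) ?_
    rw [rho_dl_cycles, h2, map_zero]
    exact dl_g (EulerLib.shortExact_cycles L i) k
  obtain ⟨k₀, hk₀⟩ := exists_of_dl_eq_zero (EulerLib.shortExact_cycles K i) b h3
  refine ⟨k₀, ?_⟩
  rw [← hk₀]
  exact (congrArg (fun φ => pc φ 0 k₀) (cokernel.π_desc _ _ _).symm).trans (pc_comp _ _ 0 k₀).symm

/-- Detection of the range, last step. -/
theorem range_top (hK : Acy K) (hL : Acy L) (hH : HCmp u χ n) (b' : EtCoh.H A (EulerLib.Q L n) 0)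
    (z : EtCoh.H B (K.cycles (n + 1)) 0) (k : EtCoh.H A (L.X n) 0)
    (h : pc (EulerLib.qToCycles L n (n + 1)) 0 b' = rho u (aZ u χ (n + 1)) 0 z + pc (L.toCycles n (n + 1)) 0 k) :
    ∃ x, rho u (aZ u χ n) 1 x = dl (EulerLib.shortExact_cycles L n) 0 b' := by
  have hS := EulerLib.shortExact_homology K n (n + 1) rfl
  have hT := EulerLib.shortExact_homology L n (n + 1) rfl
  have hk : pc (L.toCycles n (n + 1)) 0 k =
      pc (EulerLib.qToCycles L n (n + 1)) 0 (pc (cokernel.π (L.iCycles n)) 0 k) := by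
    rw [pc_comp, cokernel.π_desc]
  rw [hk] at h
  have h1 : rho u (aH u χ (n + 1)) 0 (pc (K.homologyπ (n + 1)) 0 z) = 0 := by
    rw [rho_π, eq_sub_of_add_eq h.symm, map_sub]
    rw [g_f (EulerLib.qToCycles_π L n (n + 1)), g_f (EulerLib.qToCycles_π L n (n + 1))]
    exact sub_self _
  obtain ⟨b, rfl⟩ := exists_of_g_eq_zero hS z (eq_zero_rho_H hH (i := n + 1) (m := 0) le_rfl (pc (K.homologyπ (n + 1)) 0 z) h1)
  refine ⟨dl (EulerLib.shortExact_cycles K n) 0 b, ?_⟩
  have h2 : b' = rho u (aQ u χ n) 0 b + pc (cokernel.π (L.iCycles n)) 0 k := by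
    refine injective_f_zero hT (h.trans ?_)
    rw [map_add, ← rho_q u χ n (n + 1) rfl]
  rw [h2, map_add, rho_dl_cycles]
  exact (left_eq_add).2 (dl_g (EulerLib.shortExact_cycles L n) k)

/-- Detection of the range, inductive step. -/
theorem range_step (hK : Acy K) (hL : Acy L) (hH : HCmp u χ n) {i m : ℕ} (h : i + (m + 2) = n + 1)
    (b' : EtCoh.H A (EulerLib.Q L i) (m + 1)) (z : EtCoh.H B (K.cycles (i + 1)) (m + 1))
    (hz : rho u (aZ u χ (i + 1)) (m + 1) z = pc (EulerLib.qToCycles L i (i + 1)) (m + 1) b') :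
    ∃ x, rho u (aZ u χ i) (m + 2) x = dl (EulerLib.shortExact_cycles L i) (m + 1) b' := by
  have hS := EulerLib.shortExact_homology K i (i + 1) rfl
  have hT := EulerLib.shortExact_homology L i (i + 1) rfl
  have h1 : rho u (aH u χ (i + 1)) (m + 1) (pc (K.homologyπ (i + 1)) (m + 1) z) = 0 := by
    rw [rho_π, hz]
    exact g_f (EulerLib.qToCycles_π L _ _) _
  obtain ⟨b, rfl⟩ := exists_of_g_eq_zero hS z (eq_zero_rho_H hH (by omega) _ h1)
  obtain ⟨x', hx'⟩ := exists_of_f_eq_zero hT (b' - rho u (aQ u χ i) (m + 1) b) (by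
    rw [map_sub]
    refine sub_eq_zero.2 (hz.symm.trans ?_)
    exact rho_q u χ i (i + 1) rfl (m + 1) b)
  obtain ⟨x, rfl⟩ := exists_rho_H hH (i := i + 1) (m := m) (by omega) x'
  refine ⟨dl (EulerLib.shortExact_cycles K i) (m + 1) (b + dl hS m x), ?_⟩
  rw [rho_dl_cycles, map_add, rho_dl_homology u χ i (i + 1) rfl, hx', add_sub_cancel]

end EtBcQLib
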