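/-
The cohomology of a sheaf read off the cycles of an injective resolution, compatibly with inverse images.
-/
import Groth.Agent.EtBcQLib.Ladder
import Groth.Agent.CohLib.ExtShift

set_option autoImplicit false
set_option linter.all false
set_option backward.isDefEq.respectTransparency false
set_option backward.isDefEq.respectTransparency.types false
set_option synthInstance.maxHeartbeats 400000
set_option maxHeartbeats 1000000

universe u

open CategoryTheory CategoryTheory.Limits AlgebraicGeometry Opposite CategoryTheory.Abelian HomologicalComplex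
open Groth.Agent

noncomputable section

namespace EtBcQLib

attribute [local instance] EtSliceLib.pullExact

theorem acy_of_injective {A : Scheme.{u}} (K : CochainComplex (EtCoh.Ab A) ℕ) [∀ n, Injective (K.X n)] : Acy K :=
  fun i m x => @Subsingleton.elim _ (CohLib.subsingleton_ext_injective _ (K.X i) m) x 0

/-- A monomorphism is injective in degree zero. -/
theorem pc_injective_zero {A : Scheme.{u}} {F G : EtCoh.Ab A} (φ : F ⟶ G) [Mono φ] :
    Function.Injective (pc φ 0) := by
  refine (injective_iff_map_eq_zero _).2 fun x hx => ?_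
  obtain ⟨ψ, rfl⟩ := EtContLib.exists_mk₀ x
  have h : Ext.mk₀ (ψ ≫ φ) = 0 := (Ext.mk₀_comp_mk₀ _ _).symm.trans hx
  rw [Ext.mk₀_eq_zero_iff, ← zero_comp (f := φ), cancel_mono] at h
  rw [h, Ext.mk₀_zero]

section Zero

variable {A : Scheme.{u}} {F : EtCoh.Ab A} (R : InjectiveResolution F)

theorem iCycles_toCycles' (i : ℕ) : R.cocomplex.iCycles i ≫ R.cocomplex.toCycles i (i + 1) = 0 :=
  EulerLib.iCycles_toCycles _ _ _

theorem shortExact_res (i : ℕ) :
    (ShortComplex.mk (R.cocomplex.iCycles i) (R.cocomplex.toCycles i (i + 1)) (iCycles_toCycles' R i)).ShortExact where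
  exact := by
    refine ShortComplex.exact_of_f_is_kernel _ ?_
    exact isKernelOfComp (R.cocomplex.iCycles (i + 1)) _ (R.cocomplex.cyclesIsKernel i (i + 1) (by simp)) _
      (R.cocomplex.toCycles_i _ _)
  mono_f := inferInstanceAs (Mono (R.cocomplex.iCycles i))
  epi_g := Preadditive.epi_of_isZero_cokernel' _ (R.cocomplex.homologyIsCokernel i (i + 1) (by simp))
    ((exactAt_iff_isZero_homology _ _).1 (R.cocomplex_exactAt_succ i))

/-- The object as the cycles in degree zero. -/
def φ₀ : F ⟶ R.cocomplex.cycles 0 :=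
  R.cocomplex.liftCycles (R.ι.f 0) 1 (CochainComplex.next ℕ 0) R.ι_f_zero_comp_complex_d

theorem φ₀_i : φ₀ R ≫ R.cocomplex.iCycles 0 = R.ι.f 0 := liftCycles_i _ _ _ _ _

instance isIso_φ₀ : IsIso (φ₀ R) := by
  let k := (KernelFork.IsLimit.lift' R.isLimitKernelFork (R.cocomplex.iCycles 0) (R.cocomplex.iCycles_d 0 1))
  have hk : k.1 ≫ R.ι.f 0 = R.cocomplex.iCycles 0 := k.2
  haveI : Mono (R.ι.f 0) := inferInstance
  refine ⟨k.1, ?_, ?_⟩
  · rw [← cancel_mono (R.ι.f 0), Category.assoc, hk, φ₀_i, Category.id_comp]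
  · rw [← cancel_mono (R.cocomplex.iCycles 0), Category.assoc, φ₀_i, hk, Category.id_comp]

/-- One connecting step. -/
abbrev dI (i m : ℕ) : EtCoh.H A (R.cocomplex.cycles (i + 1)) m →+ EtCoh.H A (R.cocomplex.cycles i) (m + 1) :=
  dl (shortExact_res R i) m

/-- Iterated connecting maps down to degree zero. -/
def it : ∀ (i m N : ℕ), m + i = N → EtCoh.H A (R.cocomplex.cycles i) m →+ EtCoh.H A (R.cocomplex.cycles 0) N
  | 0, m, N, h => (Ext.mk₀ (𝟙 (R.cocomplex.cycles 0))).postcomp _ h
  | i + 1, m, N, h => (it i (m + 1) N (by omega)).comp (dI R i m)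

theorem it_succ (i m N : ℕ) (h : m + (i + 1) = N) (x : EtCoh.H A (R.cocomplex.cycles (i + 1)) m) :
    it R (i + 1) m N h x = it R i (m + 1) N (by omega) (dI R i m x) := rfl

theorem it_zero (m : ℕ) (x : EtCoh.H A (R.cocomplex.cycles 0) m) : it R 0 m m (add_zero m) x = x :=
  Ext.comp_mk₀_id x

theorem dl_cycles_eq (i m : ℕ) (b : EtCoh.H A (EulerLib.Q R.cocomplex i) m) :
    dl (EulerLib.shortExact_cycles R.cocomplex i) m b =
      dI R i m (pc (EulerLib.qToCycles R.cocomplex i (i + 1)) m b) := by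
  let φ : ShortComplex.mk (R.cocomplex.iCycles i) (cokernel.π _) (cokernel.condition _) ⟶
      ShortComplex.mk (R.cocomplex.iCycles i) (R.cocomplex.toCycles i (i + 1)) (iCycles_toCycles' R i) :=
    ShortComplex.homMk (𝟙 _) (𝟙 _) (EulerLib.qToCycles R.cocomplex i (i + 1))
      ((Category.id_comp _).trans (Category.comp_id _).symm)
      ((Category.id_comp _).trans (cokernel.π_desc _ _ _).symm)
  have e := ShortComplex.ShortExact.extClass_naturality (EulerLib.shortExact_cycles R.cocomplex i) (shortExact_res R i) φ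
  show b.comp (EulerLib.shortExact_cycles R.cocomplex i).extClass rfl =
    (b.comp (Ext.mk₀ (EulerLib.qToCycles R.cocomplex i (i + 1))) (add_zero m)).comp (shortExact_res R i).extClass rfl
  rw [Ext.comp_assoc (a₂₃ := 1) _ _ _ (add_zero m) (zero_add 1) (by omega)]
  refine congrArg (fun z => Ext.comp b z rfl) ?_
  refine Eq.trans ?_ e
  exact (Ext.comp_mk₀_id _).symm

theorem it_injective : ∀ (i m N : ℕ) (h : (m + 1) + i = N), Function.Injective (it R i (m + 1) N h)
  | 0, m, N, h => by
    obtain rfl : m + 1 = N := h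
    intro x y hxy
    rwa [it_zero, it_zero] at hxy
  | i + 1, m, N, h => by
    refine (injective_iff_map_eq_zero _).2 fun x hx => ?_
    rw [it_succ] at hx
    obtain ⟨y, rfl⟩ := exists_of_dl_eq_zero (shortExact_res R i) x
      (it_injective i (m + 1) N (by omega) (hx.trans (map_zero _).symm))
    rw [acy_of_injective R.cocomplex i m y, map_zero]

theorem it_surjective : ∀ (i m N : ℕ) (h : m + i = N), Function.Surjective (it R i m N h)
  | 0, m, N, h => fun y => by
    obtain rfl : m = N := by omega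
    exact ⟨y, it_zero R m y⟩
  | i + 1, m, N, h => fun y => by
    obtain ⟨x, rfl⟩ := it_surjective i (m + 1) N (by omega) y
    obtain ⟨z, rfl⟩ := exists_of_f_eq_zero (shortExact_res R i) x (acy_of_injective R.cocomplex i m _)
    exact ⟨z, rfl⟩

theorem it_toCycles (i N : ℕ) (h : 0 + (i + 1) = N) (k : EtCoh.H A (R.cocomplex.X i) 0) :
    it R (i + 1) 0 N h (pc (R.cocomplex.toCycles i (i + 1)) 0 k) = 0 := by
  rw [it_succ]
  exact (congrArg (it R i 1 N (by omega)) (dl_g (shortExact_res R i) k)).trans (map_zero _)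

theorem exists_of_it_eq_zero (i N : ℕ) (h : 0 + (i + 1) = N) (z : EtCoh.H A (R.cocomplex.cycles (i + 1)) 0)
    (hz : it R (i + 1) 0 N h z = 0) : ∃ k, pc (R.cocomplex.toCycles i (i + 1)) 0 k = z := by
  rw [it_succ] at hz
  exact exists_of_dl_eq_zero (shortExact_res R i) z (it_injective R i 0 N (by omega) (hz.trans (map_zero _).symm))

end Zero

variable {A B : Scheme.{u}} (u : A ⟶ B) {F : EtCoh.Ab B} (R : InjectiveResolution F)
  {G : EtCoh.Ab A} (R' : InjectiveResolution G)
  (θ : R.cocomplex ⟶ ((EtCoh.push u).mapHomologicalComplex _).obj R'.cocomplex)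

theorem rho_dI (i m : ℕ) (x : EtCoh.H B (R.cocomplex.cycles (i + 1)) m) :
    rho u (aZ u θ i) (m + 1) (dI R i m x) = dI R' i m (rho u (aZ u θ (i + 1)) m x) := by
  refine EtContLib.HpullThen_delta u (shortExact_res R i) (shortExact_res R' i)
    (aZ u θ i) (θ.f i) (aZ u θ (i + 1)) (iCycles_χ u θ i) ?_ x
  show R.cocomplex.toCycles i (i + 1) ≫ aZ u θ (i + 1) = θ.f i ≫ (EtCoh.push u).map (R'.cocomplex.toCycles i (i + 1))
  rw [show R.cocomplex.toCycles i (i + 1) = cokernel.π (R.cocomplex.iCycles i) ≫ EulerLib.qToCycles _ i (i + 1) from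
      (cokernel.π_desc _ _ _).symm,
    show R'.cocomplex.toCycles i (i + 1) = cokernel.π (R'.cocomplex.iCycles i) ≫ EulerLib.qToCycles _ i (i + 1) from
      (cokernel.π_desc _ _ _).symm,
    Category.assoc, qToCycles_aZ u θ i (i + 1) rfl, reassoc_of% (π_aQ u θ i), ← Functor.map_comp]

theorem rho_it : ∀ (i m N : ℕ) (h : m + i = N) (x : EtCoh.H B (R.cocomplex.cycles i) m),
    rho u (aZ u θ 0) N (it R i m N h x) = it R' i m N h (rho u (aZ u θ i) m x)
  | 0, m, N, h, x => by
    obtain rfl : m = N := by omega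
    rw [it_zero, it_zero]
  | i + 1, m, N, h, x => by
    rw [it_succ, it_succ, rho_it i (m + 1) N (by omega), rho_dI]

/-- The comparison in degree zero over a morphism. -/
theorem φ₀_aZ (v : F ⟶ (EtCoh.push u).obj G) (hθ : R.ι.f 0 ≫ θ.f 0 = v ≫ (EtCoh.push u).map (R'.ι.f 0)) :
    φ₀ R ≫ aZ u θ 0 = v ≫ (EtCoh.push u).map (φ₀ R') := by
  haveI : Mono ((EtCoh.push u).map (R'.cocomplex.iCycles 0)) := CategoryTheory.preserves_mono_of_preservesLimit _ _
  rw [← cancel_mono ((EtCoh.push u).map (R'.cocomplex.iCycles 0)), Category.assoc, Category.assoc,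
    ← Functor.map_comp, φ₀_i, ← iCycles_χ, ← hθ, reassoc_of% (φ₀_i R)]

end EtBcQLib
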