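/-
A square of schemes: cohomology upstairs read off the cycles of the direct image complexes downstairs.
-/
import Groth.Agent.EtBcQLib.Res
import Groth.Agent.EtBcQLib.Et
import Groth.Agent.EtContLib.Push

set_option autoImplicit false
set_option linter.all false
set_option backward.isDefEq.respectTransparency false
set_option backward.isDefEq.respectTransparency.types false
set_option synthInstance.maxHeartbeats 400000
set_option maxHeartbeats 1000000

universe u

open CategoryTheory CategoryTheory.Limits AlgebraicGeometry Opposite CategoryTheory.Abelian HomologicalComplex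
open Groth.Agent

noncomputable section

namespace EtBcQLib

attribute [local instance] EtSliceLib.pullExact

theorem sq_aux {𝒞 : Type*} [Category 𝒞] {a₀ a₁ a₂ a₃ b₁ b₂ b₃ : 𝒞} {iK : a₀ ⟶ b₁} {a : a₀ ⟶ a₁} {b : a₁ ⟶ a₂}
    {αZ : a₂ ⟶ a₃} {m' : a₃ ⟶ b₃} {m : a₂ ⟶ b₂} {αX : b₂ ⟶ b₃} {pI : a₁ ⟶ b₁} {tf : b₁ ⟶ b₂}
    (h₁ : αZ ≫ m' = m ≫ αX) (h₂ : b ≫ m = pI ≫ tf) (h₃ : a ≫ pI = iK) :
    (a ≫ b ≫ αZ) ≫ m' = iK ≫ tf ≫ αX := by
  rw [Category.assoc, Category.assoc, h₁, ← Category.assoc b, h₂, Category.assoc, ← Category.assoc a, h₃]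

section Comp

variable {A B C : Scheme.{u}} (a : A ⟶ B) (b : B ⟶ C) (c : A ⟶ C) (w : a ≫ b = c)

theorem adjL_comp {F : EtCoh.Ab C} {M : EtCoh.Ab B} {N : EtCoh.Ab A} (β : F ⟶ (EtCoh.push b).obj M)
    (γ : M ⟶ (EtCoh.push a).obj N) (δ : F ⟶ (EtCoh.push c).obj N)
    (h : β ≫ (EtCoh.push b).map γ = δ ≫ (DescSecLib.etPc a b c w).app N) :
    (EtCoh.pull a).map (EtContLib.adjL b β) ≫ EtContLib.adjL a γ =
      (DescSecLib.etSys.c a b c w).app F ≫ EtContLib.adjL c δ := by
  apply ((EtCoh.pullPushAdj a).homEquiv _ _).injective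
  apply ((EtCoh.pullPushAdj b).homEquiv _ _).injective
  have l1 : (EtCoh.pullPushAdj a).homEquiv _ _ ((EtCoh.pull a).map (EtContLib.adjL b β) ≫ EtContLib.adjL a γ) =
      EtContLib.adjL b β ≫ γ := by
    rw [Adjunction.homEquiv_naturality_left, EtContLib.adjL, EtContLib.adjL, Equiv.apply_symm_apply]
  have l2 : (EtCoh.pullPushAdj b).homEquiv _ _ (EtContLib.adjL b β ≫ γ) = β ≫ (EtCoh.push b).map γ := by
    rw [Adjunction.homEquiv_naturality_right, EtContLib.adjL, Equiv.apply_symm_apply]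
  refine (congrArg ((EtCoh.pullPushAdj b).homEquiv _ _) l1).trans (l2.trans (h.trans ?_))
  rw [Adjunction.homEquiv_naturality_right, Adjunction.homEquiv_naturality_right]
  erw [DescSecLib.PullSys.homEquiv_c DescSecLib.etSys]
  rw [Category.assoc]
  refine Eq.trans ?_ (congrArg (fun t => (EtCoh.pullPushAdj c).unit.app F ≫ t)
    ((DescSecLib.etPc a b c w).naturality (EtContLib.adjL c δ)))
  refine (congrArg (fun t => t ≫ (DescSecLib.etPc a b c w).app N)
    (show δ = (EtCoh.pullPushAdj c).unit.app F ≫ (EtCoh.push c).map (EtContLib.adjL c δ) from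
      (Equiv.apply_symm_apply ((EtCoh.pullPushAdj c).homEquiv F N) δ).symm.trans
        (Adjunction.homEquiv_unit _ _ _ _))).trans ?_
  exact Category.assoc _ _ _

theorem isIso_c (G : EtCoh.Ab C) : IsIso ((DescSecLib.etSys.c a b c w).app G) := by
  rw [← EtSliceLib.pullComp_inv_eq]
  infer_instance

end Comp

section Cycles

variable {A B : Scheme.{u}} (p : A ⟶ B) (L : CochainComplex (EtCoh.Ab A) ℕ)

/-- The identity of a direct image complex, as a map of complexes over `p`. -/
abbrev idχ : ((EtCoh.push p).mapHomologicalComplex _).obj L ⟶ ((EtCoh.push p).mapHomologicalComplex _).obj L := 𝟙 _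

theorem isIso_cyclesComparison (i : ℕ) : IsIso (RDer.cyclesComparison (EtCoh.push p) L i) := by
  have hz : (EtCoh.push p).map (L.iCycles i) ≫ (((EtCoh.push p).mapHomologicalComplex _).obj L).d i (i + 1) = 0 := by
    show (EtCoh.push p).map (L.iCycles i) ≫ (EtCoh.push p).map (L.d i (i + 1)) = 0
    rw [← Functor.map_comp, iCycles_d, Functor.map_zero]
  haveI : Mono ((EtCoh.push p).map (L.iCycles i)) := CategoryTheory.preserves_mono_of_preservesLimit _ _
  refine ⟨(((EtCoh.push p).mapHomologicalComplex _).obj L).liftCycles ((EtCoh.push p).map (L.iCycles i)) (i + 1)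
    (CochainComplex.next ℕ i) hz, ?_, ?_⟩
  · rw [← cancel_mono ((((EtCoh.push p).mapHomologicalComplex _).obj L).iCycles i), Category.assoc, liftCycles_i,
      RDer.cyclesComparison_i, Category.id_comp]
  · rw [← cancel_mono ((EtCoh.push p).map (L.iCycles i)), Category.assoc, RDer.cyclesComparison_i, liftCycles_i,
      Category.id_comp]

instance isIso_aZ_id (i : ℕ) : IsIso (aZ p (idχ p L) i) := by
  haveI := isIso_cyclesComparison p L i
  show IsIso (cyclesMap (𝟙 _) i ≫ _)
  rw [cyclesMap_id, Category.id_comp]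
  infer_instance

theorem bijective_rho_zero {F : EtCoh.Ab B} {M : EtCoh.Ab A} (α : F ⟶ (EtCoh.push p).obj M) [IsIso α] :
    Function.Bijective (rho p α 0) := by
  have hs : ∀ {Z : Scheme.{u}} (G : EtCoh.Ab Z), Function.Bijective (EtContLib.sec (G := G)) :=
    fun _ => ⟨EtContLib.sec_injective, EtContLib.sec_surjective⟩
  refine (Function.Bijective.of_comp_iff' (hs M) _).1 ?_
  rw [show EtContLib.sec ∘ rho p α 0 = fun e => M.obj.map (EtCore.bcTopIso p).inv.op
      (α.hom.app (op (EtCoh.top B)) (EtContLib.sec e)) from funext fun e => EtContLib.sec_HpullThen p α e]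
  haveI : IsIso (α.hom.app (op (EtCoh.top B))) :=
    inferInstanceAs (IsIso (((sheafToPresheaf _ _).map α).app (op (EtCoh.top B))))
  exact ((ConcreteCategory.bijective_of_isIso (M.obj.map (EtCore.bcTopIso p).inv.op)).comp
    (ConcreteCategory.bijective_of_isIso (α.hom.app (op (EtCoh.top B))))).comp (hs F)

theorem bijective_rho_X (i : ℕ) : Function.Bijective (rho p ((idχ p L).f i) 0) := by
  haveI : IsIso ((idχ p L).f i) := inferInstanceAs (IsIso (𝟙 _))
  exact bijective_rho_zero p ((idχ p L).f i)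

end Cycles

variable {X Y Xb Yb : Scheme.{u}} (p : Xb ⟶ X) (h : Y ⟶ X) (pY : Yb ⟶ Y) (hb : Yb ⟶ Xb) (w : hb ≫ p = pY ≫ h)
  {F : EtCoh.Ab Xb} (I : InjectiveResolution F) {G : EtCoh.Ab Yb} (J : InjectiveResolution G)
  (θ : I.cocomplex ⟶ ((EtCoh.push hb).mapHomologicalComplex _).obj J.cocomplex)

/-- The map of direct image complexes downstairs. -/
abbrev χd : ((EtCoh.push p).mapHomologicalComplex _).obj I.cocomplex ⟶
    ((EtCoh.push h).mapHomologicalComplex _).obj (((EtCoh.push pY).mapHomologicalComplex _).obj J.cocomplex) :=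
  cxMap (EtCoh.push p) (EtCoh.push hb) (EtCoh.push pY) (EtCoh.push h) (sqα p h pY hb w) θ

/-- The diagonal map on cycles. -/
def diagZ (i : ℕ) : (((EtCoh.push p).mapHomologicalComplex _).obj I.cocomplex).cycles i ⟶
    (EtCoh.push (hb ≫ p)).obj (J.cocomplex.cycles i) :=
  aZ p (idχ p I.cocomplex) i ≫ (EtCoh.push p).map (aZ hb θ i) ≫ (EtCoh.pushComp p hb).hom.app _

theorem upper_sq (i : ℕ) : aZ p (idχ p I.cocomplex) i ≫ (EtCoh.push p).map (aZ hb θ i) =
    diagZ p hb I J θ i ≫ (DescSecLib.etPc hb p (hb ≫ p) rfl).app (J.cocomplex.cycles i) := by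
  rw [← EtSliceLib.pushComp_inv_eq p hb, diagZ]
  simp only [Category.assoc, Iso.hom_inv_id_app]
  exact congrArg (_ ≫ ·) (Category.comp_id _).symm

theorem lower_sq (i : ℕ) : aZ h (χd p h pY hb w I J θ) i ≫ (EtCoh.push h).map (aZ pY (idχ pY J.cocomplex) i) =
    diagZ p hb I J θ i ≫ (DescSecLib.etPc pY h (hb ≫ p) w.symm).app (J.cocomplex.cycles i) := by
  haveI : Mono ((EtCoh.push pY).map (J.cocomplex.iCycles i)) := CategoryTheory.preserves_mono_of_preservesLimit _ _
  haveI : Mono ((EtCoh.push h).map ((EtCoh.push pY).map (J.cocomplex.iCycles i))) :=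
    CategoryTheory.preserves_mono_of_preservesLimit _ _
  let KX := ((EtCoh.push p).mapHomologicalComplex (ComplexShape.up ℕ)).obj I.cocomplex
  let KY := ((EtCoh.push pY).mapHomologicalComplex (ComplexShape.up ℕ)).obj J.cocomplex
  have e1 : aZ pY (idχ pY J.cocomplex) i ≫ (EtCoh.push pY).map (J.cocomplex.iCycles i) = KY.iCycles i :=
    (iCycles_χ pY (idχ pY J.cocomplex) i).symm.trans (Category.comp_id _)
  have e2 : aZ h (χd p h pY hb w I J θ) i ≫ (EtCoh.push h).map (KY.iCycles i) =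
      KX.iCycles i ≫ (EtCoh.push p).map (θ.f i) ≫ (sqα p h pY hb w).app (J.cocomplex.X i) :=
    (iCycles_χ h (χd p h pY hb w I J θ) i).symm
  have e3 : aZ p (idχ p I.cocomplex) i ≫ (EtCoh.push p).map (I.cocomplex.iCycles i) = KX.iCycles i :=
    (iCycles_χ p (idχ p I.cocomplex) i).symm.trans (Category.comp_id _)
  have e4 : (EtCoh.push p).map (aZ hb θ i) ≫ (EtCoh.push p).map ((EtCoh.push hb).map (J.cocomplex.iCycles i)) =
      (EtCoh.push p).map (I.cocomplex.iCycles i) ≫ (EtCoh.push p).map (θ.f i) :=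
    ((EtCoh.push p).map_comp _ _).symm.trans
      ((congrArg (EtCoh.push p).map (iCycles_χ hb θ i).symm).trans ((EtCoh.push p).map_comp _ _))
  have n : (sqα p h pY hb w).app (J.cocomplex.cycles i) ≫ (EtCoh.push h).map ((EtCoh.push pY).map (J.cocomplex.iCycles i)) =
      (EtCoh.push p).map ((EtCoh.push hb).map (J.cocomplex.iCycles i)) ≫ (sqα p h pY hb w).app (J.cocomplex.X i) :=
    ((sqα p h pY hb w).naturality (J.cocomplex.iCycles i)).symm
  have hd : diagZ p hb I J θ i ≫ (DescSecLib.etPc pY h (hb ≫ p) w.symm).app (J.cocomplex.cycles i) =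
      aZ p (idχ p I.cocomplex) i ≫ (EtCoh.push p).map (aZ hb θ i) ≫
        (sqα p h pY hb w).app (J.cocomplex.cycles i) := by
    rw [← EtContLib.pushCongr_pc pY h (hb ≫ p) w, diagZ, ← EtSliceLib.pushComp_inv_eq h pY]
    simp only [sqα, Iso.trans_hom, Iso.symm_hom, NatTrans.comp_app, Category.assoc]
  rw [hd]
  refine (cancel_mono ((EtCoh.push h).map ((EtCoh.push pY).map (J.cocomplex.iCycles i)))).1 ?_
  refine (Category.assoc _ _ _).trans ((congrArg (aZ h (χd p h pY hb w I J θ) i ≫ ·)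
    (((EtCoh.push h).map_comp _ _).symm.trans (congrArg (EtCoh.push h).map e1))).trans (e2.trans ?_))
  exact (sq_aux n e4 e3).symm

theorem rho_square (i m : ℕ) (x : EtCoh.H X ((((EtCoh.push p).mapHomologicalComplex _).obj I.cocomplex).cycles i) m) :
    rho pY (aZ pY (idχ pY J.cocomplex) i) m (rho h (aZ h (χd p h pY hb w I J θ) i) m x) =
      rho hb (aZ hb θ i) m (rho p (aZ p (idχ p I.cocomplex) i) m x) :=
  (EtContLib.HpullThen_comp pY h (hb ≫ p) w.symm _ _ _ (lower_sq p h pY hb w I J θ i) m x).trans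
    (EtContLib.HpullThen_comp hb p (hb ≫ p) rfl _ _ _ (upper_sq p hb I J θ i) m x).symm

end EtBcQLib
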