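/-
Comparison conditions transported along a square of schemes through the base change morphisms.
-/
import Groth.Agent.EtBcQLib.Square
import Groth.Agent.EtBcQLib.Zero
import Groth.Agent.EtAcycLib.Comp
import Groth.Agent.EtShLib.Stalk
import Groth.Agent.S8560

set_option autoImplicit false
set_option linter.all false
set_option backward.isDefEq.respectTransparency false
set_option backward.isDefEq.respectTransparency.types false
set_option synthInstance.maxHeartbeats 400000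
set_option maxHeartbeats 1600000

universe u

open CategoryTheory CategoryTheory.Limits AlgebraicGeometry Opposite CategoryTheory.Abelian HomologicalComplex
open Groth.Agent

noncomputable section

namespace EtBcQLib

attribute [local instance] EtSliceLib.pullExact

theorem adjL_left {A B : Scheme.{u}} (f : A ⟶ B) {F F' : EtCoh.Ab B} {M : EtCoh.Ab A} (φ : F ⟶ F')
    (α : F' ⟶ (EtCoh.push f).obj M) :
    EtContLib.adjL f (φ ≫ α) = (EtCoh.pull f).map φ ≫ EtContLib.adjL f α :=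
  Adjunction.homEquiv_naturality_left_symm _ _ _

theorem adjL_right {A B : Scheme.{u}} (f : A ⟶ B) {F : EtCoh.Ab B} {M M' : EtCoh.Ab A}
    (α : F ⟶ (EtCoh.push f).obj M) (ψ : M ⟶ M') :
    EtContLib.adjL f (α ≫ (EtCoh.push f).map ψ) = EtContLib.adjL f α ≫ ψ :=
  Adjunction.homEquiv_naturality_right_symm _ _ _

theorem Hpull_pc {A B : Scheme.{u}} (f : A ⟶ B) {F F' : EtCoh.Ab B} (φ : F ⟶ F') (m : ℕ) (x : EtCoh.H B F m) :
    EtCore.Hpull f F' m (pc φ m x) = pc ((EtCoh.pull f).map φ) m (EtCore.Hpull f F m x) :=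
  EtAcycLib.Hpull_postcomp f φ m x

theorem via_eq {A B C : Scheme.{u}} (a : A ⟶ B) (b : B ⟶ C) (c : A ⟶ C) (w : a ≫ b = c) (G : EtCoh.Ab C) (q : ℕ)
    (x : EtCoh.H B ((EtCoh.pull b).obj G) q) :
    EtCore.HpullVia a b c w G q x =
      pc ((DescSecLib.etSys.c a b c w).app G) q (EtCore.Hpull a ((EtCoh.pull b).obj G) q x) := by
  rw [← EtSliceLib.pullComp_inv_eq a b c w G]
  rfl

theorem mono_unit {A B : Scheme.{u}} (f : A ⟶ B) (hf : Function.Surjective f.base) (F : EtCoh.Ab B) :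
    Mono ((EtCoh.pullPushAdj f).unit.app F) := by
  haveI : AlgebraicGeometry.Surjective f := ⟨hf⟩
  haveI : ∀ U, Mono (((EtCoh.pullPushAdj f).unit.app F).hom.app U) := fun U =>
    (AddCommGrpCat.mono_iff_injective _).2 (EtShLib.unit_injective f F U.unop)
  haveI : Mono ((EtCoh.pullPushAdj f).unit.app F).hom := NatTrans.mono_of_mono_app _
  exact (sheafToPresheaf _ _).mono_of_mono_map
    (inferInstanceAs (Mono ((EtCoh.pullPushAdj f).unit.app F).hom))

section Id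

variable {A B : Scheme.{u}} (p : A ⟶ B) (L : CochainComplex (EtCoh.Ab A) ℕ)

/-- A boundary upstairs comes from a boundary downstairs. -/
theorem exists_boundary (i : ℕ)
    (y : EtCoh.H B ((((EtCoh.push p).mapHomologicalComplex _).obj L).cycles (i + 1)) 0)
    (k : EtCoh.H A (L.X i) 0) (hy : rho p (aZ p (idχ p L) (i + 1)) 0 y = pc (L.toCycles i (i + 1)) 0 k) :
    ∃ k', pc ((((EtCoh.push p).mapHomologicalComplex _).obj L).toCycles i (i + 1)) 0 k' = y := by
  obtain ⟨k', rfl⟩ := (bijective_rho_X p L i).2 k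
  exact ⟨k', (bijective_rho_zero p (aZ p (idχ p L) (i + 1))).1
    ((rho_toCycles p (idχ p L) i (i + 1) rfl 0 k').trans hy.symm)⟩

end Id

variable {X Y Xb Yb : Scheme.{u}} (p : Xb ⟶ X) (h : Y ⟶ X) (pY : Yb ⟶ Y) (hb : Yb ⟶ Xb) (w : hb ≫ p = pY ≫ h)
  {F : EtCoh.Ab Xb} (I : InjectiveResolution F) (J : InjectiveResolution ((EtCoh.pull hb).obj F))
  (θ : I.cocomplex ⟶ ((EtCoh.push hb).mapHomologicalComplex _).obj J.cocomplex)
  (hθ : I.ι.f 0 ≫ θ.f 0 = (EtCoh.pullPushAdj hb).unit.app F ≫ (EtCoh.push hb).map (J.ι.f 0))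

theorem acy_push {A B : Scheme.{u}} (f : A ⟶ B) {G : EtCoh.Ab A} (R : InjectiveResolution G) :
    Acy (((EtCoh.push f).mapHomologicalComplex _).obj R.cocomplex) := by
  haveI : ∀ i, Injective ((((EtCoh.push f).mapHomologicalComplex _).obj R.cocomplex).X i) :=
    fun i => (EtCoh.push f).injective_obj (R.cocomplex.X i)
  exact acy_of_injective _

include hθ in
theorem adjL_aH (i : ℕ) :
    EtContLib.adjL h (aH h (χd p h pY hb w I J θ) i) =
      (EtCoh.pull h).map (I.isoRightDerivedObj (EtCoh.push p) i).inv ≫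
        EtBC.bcQ p h pY hb w i F ≫ (J.isoRightDerivedObj (EtCoh.push pY) i).hom := by
  have e := bcu_comp (EtCoh.push p) (EtCoh.push hb) (EtCoh.push pY) (EtCoh.push h) (sqα p h pY hb w) i
    ((EtCoh.pullPushAdj hb).unit.app F) I J θ hθ
  rw [← bcQAdj_eq p h pY hb w i F] at e
  have e' : aH h (χd p h pY hb w I J θ) i = (I.isoRightDerivedObj (EtCoh.push p) i).inv ≫
      EtBC.bcQAdj p h pY hb w i F ≫ (EtCoh.push h).map (J.isoRightDerivedObj (EtCoh.push pY) i).hom := by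
    rw [Iso.eq_inv_comp]
    exact e.symm
  rw [e', adjL_left, adjL_right]
  rfl

include hθ in
theorem hCmp [CompactSpace Xb] [QuasiSeparatedSpace Xb] [QuasiSeparatedSpace X] {L : Set ℕ} {n : ℕ}
    (hh : EtAcyc.CompN h L n) (hF : EtAcyc.IsLTorsion L F)
    (hbc : (∀ i : ℕ, i ≤ n → IsIso (EtBC.bcQ p h pY hb w i F)) ∧ Mono (EtBC.bcQ p h pY hb w (n + 1) F)) :
    HCmp h (χd p h pY hb w I J θ) n := by
  intro i m
  have hT : EtAcyc.IsLTorsion L ((((EtCoh.push p).mapHomologicalComplex _).obj I.cocomplex).homology i) :=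
    EtAcycLib.isLTorsion_of_epi (G := (EtCoh.Rpush p i).obj F) (Groth.Agent.S8560.result p L F hF i)
      (I.isoRightDerivedObj (EtCoh.push p) i).hom
  have key : (rho h (aH h (χd p h pY hb w I J θ) i) m : _ → _) =
      (pc (EtContLib.adjL h (aH h (χd p h pY hb w I J θ) i)) m : _ → _) ∘ EtCore.Hpull h _ m := rfl
  rw [key]
  refine ⟨fun hle => ?_, fun heq => ?_⟩
  · haveI := hbc.1 i (by omega)
    haveI : IsIso (EtContLib.adjL h (aH h (χd p h pY hb w I J θ) i)) := by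
      rw [adjL_aH p h pY hb w I J θ hθ i]
      infer_instance
    exact (pc_bijective _ m).comp ((hh _ hT).1 m (by omega))
  · rcases Nat.lt_or_ge n i with hi | hi
    · obtain rfl : i = n + 1 := by omega
      obtain rfl : m = 0 := by omega
      haveI := hbc.2
      haveI : Mono (EtContLib.adjL h (aH h (χd p h pY hb w I J θ) (n + 1))) := by
        rw [adjL_aH p h pY hb w I J θ hθ (n + 1)]
        infer_instance
      exact (pc_injective_zero _).comp ((hh _ hT).1 0 (Nat.zero_le n)).1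
    · haveI := hbc.1 i hi
      haveI : IsIso (EtContLib.adjL h (aH h (χd p h pY hb w I J θ) i)) := by
        rw [adjL_aH p h pY hb w I J θ hθ i]
        infer_instance
      refine (pc_bijective _ m).1.comp ?_
      rcases Nat.lt_or_ge n m with hm | hm
      · obtain rfl : m = n + 1 := by omega
        exact (hh _ hT).2
      · exact ((hh _ hT).1 m hm).1

/-- The inverse image of a class, read on the cycles of the resolutions. -/
theorem Hpull_eq (hθ : I.ι.f 0 ≫ θ.f 0 = (EtCoh.pullPushAdj hb).unit.app F ≫ (EtCoh.push hb).map (J.ι.f 0))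
    (q : ℕ) (x : EtCoh.H Xb F q) :
    pc (φ₀ J) q (EtCore.Hpull hb F q x) = rho hb (aZ hb θ 0) q (pc (φ₀ I) q x) := by
  refine Eq.trans ?_
    (rho_pc hb ((EtCoh.pullPushAdj hb).unit.app F) (aZ hb θ 0) (φ₀ I) (φ₀ J) (φ₀_aZ hb I J θ _ hθ) q x).symm
  refine congrArg (pc (φ₀ J) q) ?_
  show EtCore.Hpull hb F q x =
    pc (EtContLib.adjL hb ((EtCoh.pullPushAdj hb).unit.app F)) q (EtCore.Hpull hb F q x)
  rw [show EtContLib.adjL hb ((EtCoh.pullPushAdj hb).unit.app F) = 𝟙 _ from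
    (Equiv.symm_apply_eq _).2 (((Category.comp_id _).symm.trans
      (congrArg (((EtCoh.pullPushAdj hb).unit.app F) ≫ ·) ((EtCoh.push hb).map_id _).symm)).trans
      (Adjunction.homEquiv_unit _ _ _ _).symm)]
  exact (Ext.comp_mk₀_id _).symm

theorem it_rho (i : ℕ)
    (z : EtCoh.H X ((((EtCoh.push p).mapHomologicalComplex _).obj I.cocomplex).cycles (i + 1)) 0) :
    rho hb (aZ hb θ 0) (i + 1) (it I (i + 1) 0 (i + 1) (zero_add _) (rho p (aZ p (idχ p I.cocomplex) (i + 1)) 0 z)) =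
      it J (i + 1) 0 (i + 1) (zero_add _)
        (rho pY (aZ pY (idχ pY J.cocomplex) (i + 1)) 0 (rho h (aZ h (χd p h pY hb w I J θ) (i + 1)) 0 z)) := by
  rw [rho_it, rho_square]

theorem exists_it_rho (i : ℕ) (y : EtCoh.H Xb (I.cocomplex.cycles 0) (i + 1)) :
    ∃ z, it I (i + 1) 0 (i + 1) (zero_add _) (rho p (aZ p (idχ p I.cocomplex) (i + 1)) 0 z) = y := by
  obtain ⟨z', rfl⟩ := it_surjective I (i + 1) 0 (i + 1) (zero_add _) y
  obtain ⟨z, rfl⟩ := (bijective_rho_zero p (aZ p (idχ p I.cocomplex) (i + 1))).2 z'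
  exact ⟨z, rfl⟩

section Deg

variable {n : ℕ} (hH : HCmp h (χd p h pY hb w I J θ) n)
include hH

theorem bijective_T_zero : Function.Bijective (rho hb (aZ hb θ 0) 0) := by
  have e : (rho hb (aZ hb θ 0) 0 : _ → _) ∘ rho p (aZ p (idχ p I.cocomplex) 0) 0 =
      (rho pY (aZ pY (idχ pY J.cocomplex) 0) 0 : _ → _) ∘ rho h (aZ h (χd p h pY hb w I J θ) 0) 0 :=
    funext fun x => (rho_square p h pY hb w I J θ 0 0 x).symm
  refine (Function.Bijective.of_comp_iff _ (bijective_rho_zero p (aZ p (idχ p I.cocomplex) 0))).1 ?_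
  rw [e]
  exact (bijective_rho_zero pY (aZ pY (idχ pY J.cocomplex) 0)).comp (bijective_Z_zero hH 0 (Nat.zero_le n))

theorem injective_T (i : ℕ) (hi : i ≤ n) : Function.Injective (rho hb (aZ hb θ 0) (i + 1)) := by
  refine (injective_iff_map_eq_zero _).2 fun y hy => ?_
  obtain ⟨z, rfl⟩ := exists_it_rho p I i y
  rw [it_rho p h pY hb w I J θ] at hy
  obtain ⟨k, hk⟩ := exists_of_it_eq_zero J i (i + 1) (zero_add _) _ hy
  obtain ⟨k', hk'⟩ := exists_boundary pY J.cocomplex i _ k hk.symm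
  obtain ⟨k₀, rfl⟩ := top_injective (acy_push p I) (acy_push pY J) hH (by omega) z k' hk'.symm
  rw [rho_toCycles p (idχ p I.cocomplex) i (i + 1) rfl, it_toCycles]

theorem surjective_T (i : ℕ) (hi : i + 1 ≤ n) : Function.Surjective (rho hb (aZ hb θ 0) (i + 1)) := by
  intro y
  obtain ⟨w', hw⟩ := exists_it_rho pY J i y
  subst hw
  obtain ⟨z, k, hzk⟩ := top_surjective (acy_push p I) (acy_push pY J) hH hi w'
  refine ⟨it I (i + 1) 0 (i + 1) (zero_add _) (rho p (aZ p (idχ p I.cocomplex) (i + 1)) 0 z), ?_⟩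
  rw [it_rho p h pY hb w I J θ]
  refine (sub_eq_zero.1 ?_).symm
  rw [← map_sub, ← map_sub, hzk, rho_toCycles pY (idχ pY J.cocomplex) i (i + 1) rfl, it_toCycles]

theorem range_claim : ∀ m i : ℕ, i + m = n → ∀ (hN : (m + 1) + i = n + 1)
    (x : EtCoh.H Y ((((EtCoh.push pY).mapHomologicalComplex _).obj J.cocomplex).cycles i) (m + 1)),
    it J i (m + 1) (n + 1) hN (rho pY (aZ pY (idχ pY J.cocomplex) i) (m + 1) x) ∈
      Set.range (rho hb (aZ hb θ 0) (n + 1)) →
    ∃ x₀, rho h (aZ h (χd p h pY hb w I J θ) i) (m + 1) x₀ = x := by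
  intro m
  induction m with
  | zero =>
    intro i hi hN x hx
    obtain rfl : i = n := by omega
    obtain ⟨b', rfl⟩ := dl_cycles_surjective (acy_push pY J) i 0 x
    rw [rho_dl_cycles, dl_cycles_eq, ← rho_q pY (idχ pY J.cocomplex) i (i + 1) rfl] at hx
    obtain ⟨η, hη⟩ := hx
    obtain ⟨z, rfl⟩ := exists_it_rho p I i η
    rw [it_rho p h pY hb w I J θ] at hη
    obtain ⟨k, hk⟩ := exists_of_it_eq_zero J i (i + 1) (zero_add _)
      (rho pY (aZ pY (idχ pY J.cocomplex) (i + 1)) 0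
        (pc (EulerLib.qToCycles _ i (i + 1)) 0 b' - rho h (aZ h (χd p h pY hb w I J θ) (i + 1)) 0 z))
      (by rw [map_sub, map_sub, hη]; exact sub_self _)
    obtain ⟨k', hk'⟩ := exists_boundary pY J.cocomplex i _ k hk.symm
    exact range_top (acy_push p I) (acy_push pY J) hH b' z k' (by rw [hk', add_sub_cancel])
  | succ m ih =>
    intro i hi hN x hx
    obtain ⟨b', rfl⟩ := dl_cycles_surjective (acy_push pY J) i (m + 1) x
    rw [rho_dl_cycles, dl_cycles_eq, ← rho_q pY (idχ pY J.cocomplex) i (i + 1) rfl] at hx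
    obtain ⟨z, hz⟩ := ih (i + 1) (by omega) (by omega) _ hx
    exact range_step (acy_push p I) (acy_push pY J) hH (by omega) b' z hz

end Deg

omit F I J θ hθ

/-- The comparison condition passes to a base change. -/
theorem compN_of_bc [CompactSpace Xb] [QuasiSeparatedSpace Xb] [QuasiSeparatedSpace X] {L : Set ℕ} {n : ℕ}
    (hh : EtAcyc.CompN h L n)
    (hbc : ∀ Fb : EtCoh.Ab Xb, EtAcyc.IsLTorsion L Fb →
      (∀ i : ℕ, i ≤ n → IsIso (EtBC.bcQ p h pY hb w i Fb)) ∧ Mono (EtBC.bcQ p h pY hb w (n + 1) Fb)) :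
    EtAcyc.CompN hb L n := by
  intro F hF _
  obtain ⟨θ, hθ, -⟩ := exists_bcu_eq (EtCoh.push p) (EtCoh.push hb) (EtCoh.push pY) (EtCoh.push h)
    (sqα p h pY hb w) 0 ((EtCoh.pullPushAdj hb).unit.app F)
  let I := injectiveResolution F
  let J := injectiveResolution ((EtCoh.pull hb).obj F)
  have hH := hCmp p h pY hb w I J θ hθ hh hF (hbc F hF)
  have e : ∀ q, (pc (φ₀ J) q : _ → _) ∘ EtCore.Hpull hb F q = (rho hb (aZ hb θ 0) q : _ → _) ∘ pc (φ₀ I) q :=
    fun q => funext (Hpull_eq hb I J θ hθ q)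
  refine ⟨fun q hq => ?_, ?_⟩
  · refine (Function.Bijective.of_comp_iff' (pc_bijective (φ₀ J) q) _).1 ?_
    rw [e]
    refine Function.Bijective.comp ?_ (pc_bijective (φ₀ I) q)
    cases q with
    | zero => exact bijective_T_zero p h pY hb w I J θ hH
    | succ i => exact ⟨injective_T p h pY hb w I J θ hH i (by omega), surjective_T p h pY hb w I J θ hH i hq⟩
  · refine Function.Injective.of_comp (f := (pc (φ₀ J) (n + 1) : _ → _)) ?_
    rw [e]
    exact (injective_T p h pY hb w I J θ hH n le_rfl).comp (pc_bijective (φ₀ I) (n + 1)).1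

theorem via_mem_range_of_mem {F : EtCoh.Ab X} {c : Yb ⟶ X} (w₁ : hb ≫ p = c) (w₂ : pY ≫ h = c) {q : ℕ}
    {ξ : EtCoh.H Y ((EtCoh.pull h).obj F) q} (hξ : ξ ∈ Set.range (EtCore.Hpull h F q)) :
    EtCore.HpullVia pY h c w₂ F q ξ ∈ Set.range (EtCore.HpullVia hb p c w₁ F q) := by
  obtain ⟨η, rfl⟩ := hξ
  refine ⟨EtCore.Hpull p F q η, ?_⟩
  rw [via_eq, via_eq]
  exact (EtContLib.hpull_comp hb p c w₁ F q η).trans (EtContLib.hpull_comp pY h c w₂ F q η).symm

/-- A class is detected after a surjective base change. -/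
theorem exists_mono_mem_range [CompactSpace Xb] [QuasiSeparatedSpace Xb] [QuasiSeparatedSpace X] {L : Set ℕ} {n : ℕ}
    (hp : Function.Surjective p.base) (hh : EtAcyc.CompN h L n)
    (hbc : ∀ Fb : EtCoh.Ab Xb, EtAcyc.IsLTorsion L Fb →
      (∀ i : ℕ, i ≤ n → IsIso (EtBC.bcQ p h pY hb w i Fb)) ∧ Mono (EtBC.bcQ p h pY hb w (n + 1) Fb))
    {F : EtCoh.Ab X} (hF : EtAcyc.IsLTorsion L F) {c : Yb ⟶ X} (w₁ : hb ≫ p = c) (w₂ : pY ≫ h = c)
    (ξ : EtCoh.H Y ((EtCoh.pull h).obj F) (n + 1))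
    (hξ : EtCore.HpullVia pY h c w₂ F (n + 1) ξ ∈ Set.range (EtCore.HpullVia hb p c w₁ F (n + 1))) :
    ∃ (G : EtCoh.Ab X) (v : F ⟶ G), Mono v ∧ EtAcyc.IsLTorsion L G ∧
      pc ((EtCoh.pull h).map v) (n + 1) ξ ∈ Set.range (EtCore.Hpull h G (n + 1)) := by
  subst w₁
  let F' := (EtCoh.pull p).obj F
  have hF' : EtAcyc.IsLTorsion L F' := EtAcycLib.isLTorsion_pull_any p hF
  obtain ⟨θ, hθ, -⟩ := exists_bcu_eq (EtCoh.push p) (EtCoh.push hb) (EtCoh.push pY) (EtCoh.push h)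
    (sqα p h pY hb w) 0 ((EtCoh.pullPushAdj hb).unit.app F')
  let I := injectiveResolution F'
  let J := injectiveResolution ((EtCoh.pull hb).obj F')
  let K := ((EtCoh.push p).mapHomologicalComplex (ComplexShape.up ℕ)).obj I.cocomplex
  let KY := ((EtCoh.push pY).mapHomologicalComplex (ComplexShape.up ℕ)).obj J.cocomplex
  have hH := hCmp p h pY hb w I J θ hθ hh hF' (hbc F' hF')
  let v : F ⟶ K.cycles 0 :=
    (EtCoh.pullPushAdj p).unit.app F ≫ (EtCoh.push p).map (φ₀ I) ≫ inv (aZ p (idχ p I.cocomplex) 0)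
  haveI : IsIso (K.homologyπ 0) := inferInstanceAs (IsIso (CochainComplex.isoHomologyπ₀ K).hom)
  haveI : IsIso (KY.homologyπ 0) := inferInstanceAs (IsIso (CochainComplex.isoHomologyπ₀ KY).hom)
  have hG : EtAcyc.IsLTorsion L (K.cycles 0) :=
    EtAcycLib.isLTorsion_of_epi (G := (EtCoh.Rpush p 0).obj F') (Groth.Agent.S8560.result p L F' hF' 0)
      ((I.isoRightDerivedObj (EtCoh.push p) 0).hom ≫ inv (K.homologyπ 0))
  haveI := mono_unit p hp F
  refine ⟨K.cycles 0, v, inferInstanceAs (Mono ((EtCoh.pullPushAdj p).unit.app F ≫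
    (EtCoh.push p).map (φ₀ I) ≫ inv (aZ p (idχ p I.cocomplex) 0))), hG, ?_⟩
  let χ := χd p h pY hb w I J θ
  haveI : IsIso (EtContLib.adjL h (aZ h χ 0)) := by
    haveI := (hbc F' hF').1 0 (Nat.zero_le n)
    haveI : IsIso (EtContLib.adjL h (aH h χ 0)) := by
      rw [adjL_aH p h pY hb w I J θ hθ 0]
      infer_instance
    have e : EtContLib.adjL h (aZ h χ 0) ≫ KY.homologyπ 0 =
        (EtCoh.pull h).map (K.homologyπ 0) ≫ EtContLib.adjL h (aH h χ 0) := by
      rw [← adjL_right, ← adjL_left, π_aH]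
    haveI : IsIso (EtContLib.adjL h (aZ h χ 0) ≫ KY.homologyπ 0) := by
      rw [e]
      infer_instance
    exact IsIso.of_isIso_comp_right _ (KY.homologyπ 0)
  have hδ₁ : (v ≫ aZ p (idχ p I.cocomplex) 0) ≫ (EtCoh.push p).map (aZ hb θ 0) =
      (v ≫ diagZ p hb I J θ 0) ≫ (DescSecLib.etPc hb p (hb ≫ p) rfl).app (J.cocomplex.cycles 0) :=
    (Category.assoc _ _ _).trans ((congrArg (v ≫ ·) (upper_sq p hb I J θ 0)).trans (Category.assoc _ _ _).symm)
  have hδ₂ : (v ≫ aZ h χ 0) ≫ (EtCoh.push h).map (aZ pY (idχ pY J.cocomplex) 0) =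
      (v ≫ diagZ p hb I J θ 0) ≫ (DescSecLib.etPc pY h (hb ≫ p) w.symm).app (J.cocomplex.cycles 0) :=
    (Category.assoc _ _ _).trans ((congrArg (v ≫ ·) (lower_sq p h pY hb w I J θ 0)).trans (Category.assoc _ _ _).symm)
  obtain ⟨η, hη⟩ := hξ
  rw [via_eq, via_eq] at hη
  have hx : rho pY (aZ pY (idχ pY J.cocomplex) 0) (n + 1)
        (pc (EtContLib.adjL h (v ≫ aZ h χ 0)) (n + 1) ξ) =
      rho hb (aZ hb θ 0) (n + 1) (pc (EtContLib.adjL p (v ≫ aZ p (idχ p I.cocomplex) 0)) (n + 1) η) := by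
    show pc (EtContLib.adjL pY (aZ pY (idχ pY J.cocomplex) 0)) (n + 1) (EtCore.Hpull pY _ (n + 1)
        (pc (EtContLib.adjL h (v ≫ aZ h χ 0)) (n + 1) ξ)) =
      pc (EtContLib.adjL hb (aZ hb θ 0)) (n + 1) (EtCore.Hpull hb _ (n + 1)
        (pc (EtContLib.adjL p (v ≫ aZ p (idχ p I.cocomplex) 0)) (n + 1) η))
    rw [Hpull_pc, Hpull_pc, pc_comp, pc_comp, adjL_comp pY h (hb ≫ p) w.symm _ _ _ hδ₂,
      adjL_comp hb p (hb ≫ p) rfl _ _ _ hδ₁, ← pc_comp, ← pc_comp]
    exact congrArg _ hη.symm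
  obtain ⟨x₀, hx₀⟩ := range_claim p h pY hb w I J θ hH n 0 (zero_add n) (by omega)
    (pc (EtContLib.adjL h (v ≫ aZ h χ 0)) (n + 1) ξ) ⟨_, hx.symm.trans (it_zero J (n + 1) _).symm⟩
  refine ⟨x₀, (pc_bijective (EtContLib.adjL h (aZ h χ 0)) (n + 1)).1 ?_⟩
  refine hx₀.trans ?_
  rw [pc_comp, adjL_left]

end EtBcQLib
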