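/-
Base change morphisms compose along a tower of squares, in every degree.
-/
import Groth.Agent.EtBcQLib.Zero

set_option autoImplicit false
set_option linter.all false
set_option backward.isDefEq.respectTransparency false
set_option backward.isDefEq.respectTransparency.types false
set_option synthInstance.maxHeartbeats 400000
set_option maxHeartbeats 1600000

universe u

open CategoryTheory CategoryTheory.Limits AlgebraicGeometry Opposite
open Groth.Agent.EtShLib

noncomputable section

namespace EtBcQLib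

attribute [local instance] EtSliceLib.pullExact

section Unit

variable {X S T Y : Scheme.{u}} (g : T ⟶ S) (f : X ⟶ S) (h : Y ⟶ X) (e : Y ⟶ T) (c : IsPullback e h g f)

/-- The base change morphism on a section, for any cartesian square. -/
theorem unit_bc0' (M : EtCoh.Ab T) (V : S.Etale) (t : ToType (((EtCoh.push g).obj M).obj.obj (op V))) :
    (EtCoh.baseChange0 g f h e c.w M).hom.app (op ((EtCoh.bc f).obj V))
        (((EtCoh.pullPushAdj f).unit.app ((EtCoh.push g).obj M)).hom.app (op V) t) =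
      ((EtCoh.pull e).obj M).obj.map (sqHom c V).op
        (((EtCoh.pullPushAdj e).unit.app M).hom.app (op ((EtCoh.bc g).obj V)) t) := by
  rw [← bcHom_eq g f h e c M]
  have := (EtCoh.pullPushAdj f).homEquiv_unit ((EtCoh.push g).obj M)
    ((EtCoh.push h).obj ((EtCoh.pull e).obj M)) (bcHom c M)
  rw [show (EtCoh.pullPushAdj f).homEquiv _ _ (bcHom c M) = bcAdj c M from Equiv.apply_symm_apply _ _] at this
  exact (congrArg (fun z : (EtCoh.push g).obj M ⟶ _ => z.hom.app (op V) t) this).symm

/-- Two maps out of an iterated inverse image agree if they agree on sections coming from the base. -/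
theorem pullPull_hom_ext {A B C : Scheme.{u}} (a : A ⟶ B) (b : B ⟶ C) {G : EtCoh.Ab C} {H : EtCoh.Ab A}
    (φ φ' : (EtCoh.pull a).obj ((EtCoh.pull b).obj G) ⟶ H)
    (h : ∀ (V : C.Etale) (t : ToType (G.obj.obj (op V))),
      φ.hom.app (op ((EtCoh.bc a).obj ((EtCoh.bc b).obj V)))
          (((EtCoh.pullPushAdj a).unit.app ((EtCoh.pull b).obj G)).hom.app (op ((EtCoh.bc b).obj V))
            (((EtCoh.pullPushAdj b).unit.app G).hom.app (op V) t)) =
        φ'.hom.app (op ((EtCoh.bc a).obj ((EtCoh.bc b).obj V)))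
          (((EtCoh.pullPushAdj a).unit.app ((EtCoh.pull b).obj G)).hom.app (op ((EtCoh.bc b).obj V))
            (((EtCoh.pullPushAdj b).unit.app G).hom.app (op V) t))) : φ = φ' := by
  apply ((EtCoh.pullPushAdj a).homEquiv _ _).injective
  apply ((EtCoh.pullPushAdj b).homEquiv _ _).injective
  rw [Adjunction.homEquiv_unit, Adjunction.homEquiv_unit, Adjunction.homEquiv_unit, Adjunction.homEquiv_unit]
  refine Sheaf.hom_ext (NatTrans.ext (funext fun V => ?_))
  ext t
  exact h V.unop t

end Unit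

section Tower

variable {X S Y T W Z : Scheme.{u}} (f : X ⟶ S) (g : T ⟶ S) (h : Y ⟶ X) (e : Y ⟶ T) (c : IsPullback e h g f)
  (i : W ⟶ X) (j : Z ⟶ W) (k : Z ⟶ Y) (c' : IsPullback k j h i)
  (f' : W ⟶ S) (wf : i ≫ f = f') (e' : Z ⟶ T) (we : k ≫ e = e') (c'' : IsPullback e' j g f')
  [PreservesFiniteLimits (EtCoh.pull e)] [PreservesFiniteLimits (EtCoh.pull k)]
  [PreservesFiniteLimits (EtCoh.pull e')]

include c c' c'' wf we in
/-- The base change morphism of the outer square is the composite, in degree zero. -/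
theorem bc0_tower (M : EtCoh.Ab T) :
    (cVia i f f' wf).app ((EtCoh.push g).obj M) ≫ EtCoh.baseChange0 g f' j e' c''.w M =
      (EtCoh.pull i).map (EtCoh.baseChange0 g f h e c.w M) ≫
        EtCoh.baseChange0 h i j k c'.w ((EtCoh.pull e).obj M) ≫ (EtCoh.push j).map ((cVia k e e' we).app M) := by
  refine pullPull_hom_ext i f _ _ fun V t => ?_
  have hl := congrArg ((EtCoh.baseChange0 g f' j e' c''.w M).hom.app (op ((EtCoh.bc i).obj ((EtCoh.bc f).obj V))))
    (unit_cVia i f f' wf ((EtCoh.push g).obj M) V t)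
  refine hl.trans ?_
  refine (NatTrans.naturality_apply (EtCoh.baseChange0 g f' j e' c''.w M).hom _ _).trans ?_
  refine (congrArg _ (unit_bc0' g f' j e' c'' M V t)).trans ?_
  show ((EtCoh.pull e').obj M).obj.map ((EtCoh.bc j).map (DescSecLib.bcCompHom i f f' wf V)).op
    (((EtCoh.pull e').obj M).obj.map (sqHom c'' V).op
      (((EtCoh.pullPushAdj e').unit.app M).hom.app (op ((EtCoh.bc g).obj V)) t)) = _
  symm
  let U := (EtCoh.bc f).obj V
  have h1 : ((EtCoh.pull i).map (EtCoh.baseChange0 g f h e c.w M)).hom.app (op ((EtCoh.bc i).obj U))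
      (((EtCoh.pullPushAdj i).unit.app ((EtCoh.pull f).obj ((EtCoh.push g).obj M))).hom.app (op U)
        (((EtCoh.pullPushAdj f).unit.app ((EtCoh.push g).obj M)).hom.app (op V) t)) =
      ((EtCoh.pullPushAdj i).unit.app ((EtCoh.push h).obj ((EtCoh.pull e).obj M))).hom.app (op U)
        (((EtCoh.pull e).obj M).obj.map (sqHom c V).op
          (((EtCoh.pullPushAdj e).unit.app M).hom.app (op ((EtCoh.bc g).obj V)) t)) := by
    rw [← unit_bc0' g f h e c M V t]
    exact (congrArg (fun z : (EtCoh.pull f).obj ((EtCoh.push g).obj M) ⟶ _ => z.hom.app (op U)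
      (((EtCoh.pullPushAdj f).unit.app ((EtCoh.push g).obj M)).hom.app (op V) t))
      ((EtCoh.pullPushAdj i).unit.naturality (EtCoh.baseChange0 g f h e c.w M))).symm
  show ((cVia k e e' we).app M).hom.app (op ((EtCoh.bc j).obj ((EtCoh.bc i).obj U)))
    ((EtCoh.baseChange0 h i j k c'.w ((EtCoh.pull e).obj M)).hom.app (op ((EtCoh.bc i).obj U))
      (((EtCoh.pull i).map (EtCoh.baseChange0 g f h e c.w M)).hom.app (op ((EtCoh.bc i).obj U))
        (((EtCoh.pullPushAdj i).unit.app ((EtCoh.pull f).obj ((EtCoh.push g).obj M))).hom.app (op U)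
          (((EtCoh.pullPushAdj f).unit.app ((EtCoh.push g).obj M)).hom.app (op V) t)))) = _
  rw [h1, unit_bc0' h i j k c' ((EtCoh.pull e).obj M) U]
  refine (congrArg (fun z => ((cVia k e e' we).app M).hom.app (op ((EtCoh.bc j).obj ((EtCoh.bc i).obj U)))
    (((EtCoh.pull k).obj ((EtCoh.pull e).obj M)).obj.map (sqHom c' U).op z))
      (NatTrans.naturality_apply ((EtCoh.pullPushAdj k).unit.app ((EtCoh.pull e).obj M)).hom (sqHom c V).op
        (((EtCoh.pullPushAdj e).unit.app M).hom.app (op ((EtCoh.bc g).obj V)) t))).trans ?_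
  refine (NatTrans.naturality_apply ((cVia k e e' we).app M).hom _ _).trans ?_
  refine (congrArg _ (NatTrans.naturality_apply ((cVia k e e' we).app M).hom
    ((EtCoh.bc k).map (sqHom c V)).op _)).trans ?_
  refine (congrArg (fun z => ((EtCoh.pull e').obj M).obj.map (sqHom c' U).op
    (((EtCoh.pull e').obj M).obj.map ((EtCoh.bc k).map (sqHom c V)).op z))
      (unit_cVia k e e' we M ((EtCoh.bc g).obj V) t)).trans ?_
  simp only [← ConcreteCategory.comp_apply, ← Functor.map_comp, ← op_comp]
  refine Eq.trans ?_ (congrArg (fun m => ((EtCoh.pull e').obj M).obj.map (Quiver.Hom.op m)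
    (((EtCoh.pullPushAdj e').unit.app M).hom.app (op ((EtCoh.bc g).obj V)) t))
    (?_ : sqHom c' U ≫ (EtCoh.bc k).map (sqHom c V) ≫ DescSecLib.bcCompHom k e e' we ((EtCoh.bc g).obj V) =
      (EtCoh.bc j).map (DescSecLib.bcCompHom i f f' wf V) ≫ sqHom c'' V))
  · exact (ConcreteCategory.congr_hom (((EtCoh.pull e').obj M).obj.map_comp
      ((EtCoh.bc k).map (sqHom c V) ≫ DescSecLib.bcCompHom k e e' we ((EtCoh.bc g).obj V)).op (sqHom c' U).op)
      (((EtCoh.pullPushAdj e').unit.app M).hom.app (op ((EtCoh.bc g).obj V)) t)).symm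
  refine DescSecLib.bc_hom_ext e' _ _ ?_
  show (sqLeft c' U ≫ ((EtCoh.bc k).map (sqHom c V)).left ≫ _) ≫ _ =
    (((EtCoh.bc j).map (DescSecLib.bcCompHom i f f' wf V)).left ≫ sqLeft c'' V) ≫ _
  simp only [Category.assoc]
  rw [DescSecLib.bcCompHom_fst]
  apply pullback.hom_ext
  · simp only [Category.assoc]
    erw [reassoc_of% (DescSecLib.bc_map_fst k (sqHom c V)), sq_fst_fst c'' V]
    show sqLeft c' U ≫ bFst k _ ≫ (sqLeft c V ≫ bFst e _) ≫ bFst g V = _
    rw [sq_fst_fst c V, ← Category.assoc (sqLeft c' U), ← Category.assoc (sqLeft c' U ≫ _), sq_fst_fst c' U]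
    erw [reassoc_of% (DescSecLib.bc_map_fst j (DescSecLib.bcCompHom i f f' wf V)),
      DescSecLib.bcCompHom_fst i f f' wf V]
    simp only [Category.assoc]
    rfl
  · simp only [Category.assoc]
    erw [reassoc_of% (DescSecLib.bc_map_fst k (sqHom c V)), sq_fst_snd c'' V]
    show sqLeft c' U ≫ bFst k _ ≫ (sqLeft c V ≫ bFst e _) ≫ bSnd g V = _
    rw [sq_fst_snd c V, ← Category.assoc (sqLeft c' U), ← Category.assoc (sqLeft c' U ≫ _), sq_fst_snd c' U]
    erw [reassoc_of% (DescSecLib.bc_map_snd j (DescSecLib.bcCompHom i f f' wf V))]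
    rw [← we]
    simp only [Category.assoc]
    rfl

/-- The outer delta functor. -/
abbrev towerSrc : LocCohLib.DeltaFun (EtCoh.Ab T) (EtCoh.Ab W) :=
  FormalPunctLib.compExact (FormalPunctLib.compExact (EtCechInjLib.derDelta (EtCoh.push g)) (EtCoh.pull f))
    (EtCoh.pull i)

/-- The target delta functor. -/
abbrev towerTgt : LocCohLib.DeltaFun (EtCoh.Ab T) (EtCoh.Ab W) :=
  precompDelta (EtCoh.pull e') (fun {_} hT => EtRpushStalkLib.shortExact_pull e' hT)
    (EtCechInjLib.derDelta (EtCoh.push j))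

/-- The family through the outer square. -/
def outerFam (q : ℕ) : (towerSrc f g i).F q ⟶ (towerTgt j e').F q where
  app M := (cVia i f f' wf).app ((EtCoh.Rpush g q).obj M) ≫ EtBC.bcQ g f' j e' c''.w q M
  naturality M M' φ := by
    refine ((cVia i f f' wf).naturality_assoc ((EtCoh.Rpush g q).map φ) _).trans ?_
    exact (congrArg ((cVia i f f' wf).app _ ≫ ·) ((bcNat g f' j e' c''.w q).naturality φ)).trans
      (Category.assoc _ _ _).symm

/-- The composite family. -/
def towerFam (q : ℕ) : (towerSrc f g i).F q ⟶ (towerTgt j e').F q where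
  app M := (EtCoh.pull i).map (EtBC.bcQ g f h e c.w q M) ≫ EtBC.bcQ h i j k c'.w q ((EtCoh.pull e).obj M) ≫
    (EtCoh.Rpush j q).map ((cVia k e e' we).app M)
  naturality M M' φ := by
    show (EtCoh.pull i).map ((EtCoh.pull f).map ((EtCoh.Rpush g q).map φ)) ≫ _ = _ ≫ _
    rw [← Functor.map_comp_assoc]
    erw [(bcNat g f h e c.w q).naturality φ]
    rw [Functor.map_comp_assoc]
    erw [reassoc_of% ((bcNat h i j k c'.w q).naturality ((EtCoh.pull e).map φ))]
    simp only [Category.assoc]
    refine congrArg (fun z => (EtCoh.pull i).map (EtBC.bcQ g f h e c.w q M) ≫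
      EtBC.bcQ h i j k c'.w q ((EtCoh.pull e).obj M) ≫ z) ?_
    show (EtCoh.Rpush j q).map _ ≫ (EtCoh.Rpush j q).map _ = _ ≫ (EtCoh.Rpush j q).map _
    rw [← Functor.map_comp, ← Functor.map_comp]
    exact congrArg _ ((cVia k e e' we).naturality φ)

include c c' we c'' wf in
theorem fam_tower (q : ℕ) :
    outerFam f g i j f' wf e' c'' q = towerFam f g h e c i j k c' e' we q := by
  refine eq_of_zero (T := towerSrc f g i) (T' := towerTgt j e') (FormalPunctLib.compExact_effaceable
      (FormalPunctLib.compExact_effaceable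
        (fun E hE n => haveI := hE; Functor.isZero_rightDerived_obj_injective_succ _ n E) _) _)
    (outerFam f g i j f' wf e' c'') (towerFam f g h e c i j k c' e' we) (fun {U} hU n => ?_) (fun {U} hU n => ?_)
    (NatTrans.ext (funext fun M => ?_)) q
  · have hU' := EtRpushStalkLib.shortExact_pull e' hU
    show (EtCoh.pull i).map ((EtCoh.pull f).map ((EtCechInjLib.derDelta (EtCoh.push g)).δ hU n)) ≫ _ = (_ ≫ _) ≫ _
    refine ((cVia i f f' wf).naturality_assoc ((EtCechInjLib.derDelta (EtCoh.push g)).δ hU n) _).trans ?_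
    exact (congrArg ((cVia i f f' wf).app _ ≫ ·) (bcNat_delta g f' j e' c''.w hU hU' n)).trans
      (Category.assoc _ _ _).symm
  · have h1 := EtRpushStalkLib.shortExact_pull e hU
    have h2 := EtRpushStalkLib.shortExact_pull k h1
    have h3 := EtRpushStalkLib.shortExact_pull e' hU
    show (EtCoh.pull i).map ((EtCoh.pull f).map ((EtCechInjLib.derDelta (EtCoh.push g)).δ hU n)) ≫ _ ≫ _ ≫ _ =
      (_ ≫ _ ≫ _) ≫ _
    rw [← Functor.map_comp_assoc, bcNat_delta g f h e c.w hU h1 n, Functor.map_comp_assoc]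
    erw [reassoc_of% (bcNat_delta h i j k c'.w h1 h2 n)]
    simp only [Category.assoc]
    refine congrArg (fun z => (EtCoh.pull i).map (EtBC.bcQ g f h e c.w n U.X₃) ≫
      EtBC.bcQ h i j k c'.w n ((EtCoh.pull e).obj U.X₃) ≫ z) ?_
    exact (EtCechInjLib.derDelta (EtCoh.push j)).δ_natural h2 h3 (U.mapNatTrans (cVia k e e' we)) n
  · haveI : IsIso ((EtCoh.push g).toRightDerivedZero.app M) := inferInstance
    refine (cancel_epi ((EtCoh.pull i).map ((EtCoh.pull f).map ((EtCoh.push g).toRightDerivedZero.app M)))).1 ?_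
    refine ((cVia i f f' wf).naturality_assoc ((EtCoh.push g).toRightDerivedZero.app M) _).trans ?_
    rw [EtBC.bcQ_zero_compat g f' j e' c''.w M, reassoc_of% (bc0_tower f g h e c i j k c' f' wf e' we c'' M)]
    show _ = (EtCoh.pull i).map _ ≫ (EtCoh.pull i).map (EtBC.bcQ g f h e c.w 0 M) ≫ _
    rw [← Functor.map_comp_assoc, EtBC.bcQ_zero_compat, Functor.map_comp_assoc,
      reassoc_of% (EtBC.bcQ_zero_compat h i j k c'.w ((EtCoh.pull e).obj M))]
    refine congrArg (fun z => (EtCoh.pull i).map (EtCoh.baseChange0 g f h e c.w M) ≫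
      EtCoh.baseChange0 h i j k c'.w ((EtCoh.pull e).obj M) ≫ z) ?_
    exact ((EtCoh.push j).toRightDerivedZero.naturality ((cVia k e e' we).app M))

include c c' we c'' wf in
/-- The base change morphism of the outer square is the composite. -/
theorem bcQ_tower (q : ℕ) (M : EtCoh.Ab T) :
    (cVia i f f' wf).app ((EtCoh.Rpush g q).obj M) ≫ EtBC.bcQ g f' j e' c''.w q M =
      (EtCoh.pull i).map (EtBC.bcQ g f h e c.w q M) ≫ EtBC.bcQ h i j k c'.w q ((EtCoh.pull e).obj M) ≫
        (EtCoh.Rpush j q).map ((cVia k e e' we).app M) :=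
  congrArg (fun z : (towerSrc f g i).F q ⟶ (towerTgt j e').F q => z.app M)
    (fam_tower f g h e c i j k c' f' wf e' we c'' q)

include c c' we c'' wf in
/-- If the second square has an isomorphism as base change, so does the first one exactly when the outer does. -/
theorem isIso_outer_iff (q : ℕ) (M : EtCoh.Ab T) (h2 : IsIso (EtBC.bcQ h i j k c'.w q ((EtCoh.pull e).obj M))) :
    IsIso (EtBC.bcQ g f' j e' c''.w q M) ↔ IsIso ((EtCoh.pull i).map (EtBC.bcQ g f h e c.w q M)) := by
  haveI := h2
  have E := bcQ_tower f g h e c i j k c' f' wf e' we c'' q M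
  haveI : IsIso ((cVia i f f' wf).app ((EtCoh.Rpush g q).obj M)) := inferInstance
  haveI : IsIso ((EtCoh.Rpush j q).map ((cVia k e e' we).app M)) := inferInstance
  rw [← isIso_comp_left_iff ((cVia i f f' wf).app ((EtCoh.Rpush g q).obj M)), E, isIso_comp_right_iff]

end Tower

end EtBcQLib
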