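/-
Base change along an étale morphism is bijective in every degree; being an isomorphism is étale local.
-/
import Groth.Agent.EtBcQLib.Tower
import Groth.Agent.EtShLib.Stalk

set_option autoImplicit false
set_option linter.all false
set_option backward.isDefEq.respectTransparency false
set_option backward.isDefEq.respectTransparency.types false
set_option synthInstance.maxHeartbeats 400000
set_option maxHeartbeats 1600000

universe u

open CategoryTheory CategoryTheory.Limits AlgebraicGeometry Opposite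
open Groth.Agent.EtShLib

noncomputable section

namespace EtBcQLib

attribute [local instance] EtSliceLib.pullExact

/-- Sections over an étale object seen in the inverse image along an étale morphism. -/
theorem bijective_unit_res {U X : Scheme.{u}} (v : U ⟶ X) [AlgebraicGeometry.Etale v] (G : EtCoh.Ab X) (W : U.Etale)
    (W' : X.Etale) (d : W ⟶ (EtCoh.bc v).obj W') [IsIso (d.left ≫ pullback.fst W'.hom v)] :
    Function.Bijective (fun t => ((EtCoh.pull v).obj G).obj.map d.op
      (((EtCoh.pullPushAdj v).unit.app G).hom.app (op W') t)) := by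
  haveI := jCont v
  let θ : (EtCoh.pull v).obj G ⟶ (EtShriek.restrAlong v).obj G := (restrTheta v).app G
  haveI : IsIso θ := NatIso.isIso_app_of_isIso (restrTheta v) G
  have hθ : ((EtCoh.pullPushAdj v).unit.app G).hom.app (op W') ≫ θ.hom.app (op ((EtCoh.bc v).obj W')) =
      G.obj.map (compBc v W').op := by
    refine congrArg (fun t : G ⟶ _ => t.hom.app (op W')) (?_ :
      (EtCoh.pullPushAdj v).unit.app G ≫ (EtCoh.push v).map θ = (restrEta v).app G)
    exact ((EtCoh.pullPushAdj v).homEquiv_unit (f := θ)).symm.trans (Equiv.apply_symm_apply _ _)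
  let e := (EtShriek.compEtale v).map d ≫ compBc v W'
  haveI : IsIso e := by
    haveI : IsIso e.left := inferInstanceAs (IsIso (d.left ≫ pullback.fst W'.hom v))
    exact ⟨MorphismProperty.Over.homMk (inv e.left)
        (by rw [IsIso.inv_comp_eq]; exact (MorphismProperty.Over.w e).symm),
      MorphismProperty.Over.Hom.ext (IsIso.hom_inv_id e.left), MorphismProperty.Over.Hom.ext (IsIso.inv_hom_id e.left)⟩
  let s : G.obj.obj (op W') ⟶ ((EtCoh.pull v).obj G).obj.obj (op W) :=
    ((EtCoh.pullPushAdj v).unit.app G).hom.app (op W') ≫ ((EtCoh.pull v).obj G).obj.map d.op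
  have h : s ≫ θ.hom.app (op W) = G.obj.map e.op := by
    show (_ ≫ _) ≫ _ = _
    rw [Category.assoc, NatTrans.naturality]
    exact ((Category.assoc _ _ _).symm.trans
      (congrArg (· ≫ ((EtShriek.restrAlong v).obj G).obj.map d.op) hθ)).trans (G.obj.map_comp _ _).symm
  haveI : IsIso (θ.hom.app (op W)) :=
    inferInstanceAs (IsIso (((sheafToPresheaf _ _).map θ).app (op W)))
  haveI : IsIso (s ≫ θ.hom.app (op W)) := by rw [h]; infer_instance
  haveI := IsIso.of_isIso_comp_right s (θ.hom.app (op W))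
  exact ConcreteCategory.bijective_of_isIso s

section Etale

variable {V S T' T : Scheme.{u}} (g : T ⟶ S) (v : V ⟶ S) [AlgebraicGeometry.Etale v] (g' : T' ⟶ V) (t : T' ⟶ T)
  (c : IsPullback t g' g v)

include c in
theorem isIso_bc0_etale (F : EtCoh.Ab T) : IsIso (EtCoh.baseChange0 g v g' t c.w F) := by
  haveI : AlgebraicGeometry.Etale t := MorphismProperty.of_isPullback c.flip ‹AlgebraicGeometry.Etale v›
  let φ := EtCoh.baseChange0 g v g' t c.w F
  haveI : ∀ W, IsIso (φ.hom.app W) := fun W => by
    rw [ConcreteCategory.isIso_iff_bijective]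
    let W' : S.Etale := MorphismProperty.Over.mk ⊤ (W.unop.hom ≫ v) (by
      haveI : AlgebraicGeometry.Etale W.unop.hom := W.unop.prop
      exact inferInstanceAs (AlgebraicGeometry.Etale (W.unop.hom ≫ v)))
    let d : W.unop ⟶ (EtCoh.bc v).obj W' :=
      MorphismProperty.Over.homMk (pullback.lift (𝟙 _) W.unop.hom (Category.id_comp _)) (pullback.lift_snd _ _ _)
    haveI : IsIso (d.left ≫ pullback.fst W'.hom v) := by
      rw [show d.left ≫ pullback.fst W'.hom v = 𝟙 _ from pullback.lift_fst _ _ _]
      infer_instance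
    let d' : (EtCoh.bc g').obj W.unop ⟶ (EtCoh.bc t).obj ((EtCoh.bc g).obj W') :=
      (EtCoh.bc g').map d ≫ sqHom c W'
    haveI : IsIso (d'.left ≫ pullback.fst ((EtCoh.bc g).obj W').hom t) := by
      let a := d'.left ≫ pullback.fst ((EtCoh.bc g).obj W').hom t
      have h1 : a ≫ pullback.fst W'.hom g = pullback.fst W.unop.hom g' := by
        show ((((EtCoh.bc g').map d).left ≫ sqLeft c W') ≫ _) ≫ _ = _
        simp only [Category.assoc]
        erw [sq_fst_fst c W']
        rw [← Category.assoc]
        erw [DescSecLib.bc_map_fst g' d]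
        rw [Category.assoc]
        erw [pullback.lift_fst]
        exact Category.comp_id _
      have h2 : a ≫ pullback.snd W'.hom g = pullback.snd W.unop.hom g' ≫ t := by
        show ((((EtCoh.bc g').map d).left ≫ sqLeft c W') ≫ _) ≫ _ = _
        simp only [Category.assoc]
        erw [sq_fst_snd c W']
        rw [← Category.assoc]
        erw [DescSecLib.bc_map_snd g' d]
      have big : IsPullback (pullback.fst W.unop.hom g') (pullback.snd W.unop.hom g' ≫ t) (W.unop.hom ≫ v) g :=
        ((IsPullback.of_hasPullback W.unop.hom g').paste_vert c.flip)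
      have ha : a = (big.isoIsPullback _ _ (IsPullback.of_hasPullback W'.hom g)).hom := by
        apply pullback.hom_ext
        · exact h1.trans (big.isoIsPullback_hom_fst _ _ (IsPullback.of_hasPullback W'.hom g)).symm
        · exact h2.trans (big.isoIsPullback_hom_snd _ _ (IsPullback.of_hasPullback W'.hom g)).symm
      show IsIso a
      rw [ha]
      infer_instance
    have hs := bijective_unit_res v ((EtCoh.push g).obj F) W.unop W' d
    have hr := bijective_unit_res t F ((EtCoh.bc g').obj W.unop) ((EtCoh.bc g).obj W') d'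
    refine (Function.Bijective.of_comp_iff _ hs).1 ?_
    refine (iff_of_eq (congrArg Function.Bijective (funext fun s => ?_))).2 hr
    refine (NatTrans.naturality_apply φ.hom d.op _).trans ?_
    refine (congrArg _ (unit_bc0' g v g' t c F W' s)).trans ?_
    show ((EtCoh.pull t).obj F).obj.map ((EtCoh.bc g').map d).op (((EtCoh.pull t).obj F).obj.map (sqHom c W').op _) =
      ((EtCoh.pull t).obj F).obj.map d'.op _
    rw [← ConcreteCategory.comp_apply, ← Functor.map_comp]
    rfl
  haveI : IsIso φ.hom := NatIso.isIso_of_isIso_app φ.hom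
  exact (isIso_iff_of_reflects_iso φ (sheafToPresheaf V.smallEtaleTopology AddCommGrpCat.{u + 1})).1 ‹_›

include c in
/-- Base change along an étale morphism is bijective in every degree. -/
theorem isIso_bcQ_etale [PreservesFiniteLimits (EtCoh.pull t)] (q : ℕ) (F : EtCoh.Ab T) :
    IsIso (EtBC.bcQ g v g' t c.w q F) := by
  haveI : AlgebraicGeometry.Etale t := MorphismProperty.of_isPullback c.flip ‹AlgebraicGeometry.Etale v›
  let T1 := FormalPunctLib.compExact (EtCechInjLib.derDelta (EtCoh.push g)) (EtCoh.pull v)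
  let T2 := precompDelta (EtCoh.pull t) (fun {_} hT => EtRpushStalkLib.shortExact_pull t hT)
    (EtCechInjLib.derDelta (EtCoh.push g'))
  have hT1 : T1.Effaceable := FormalPunctLib.compExact_effaceable
    (fun E hE n => haveI := hE; Functor.isZero_rightDerived_obj_injective_succ _ n E) _
  have hT2 : T2.Effaceable := fun E hE n => by
    haveI := hE
    haveI : Injective ((EtCoh.pull t).obj E) :=
      EtSliceLib.injective_pull (MorphismProperty.Over.mk ⊤ t ‹AlgebraicGeometry.Etale t› : T.Etale) E
    exact Functor.isZero_rightDerived_obj_injective_succ _ n ((EtCoh.pull t).obj E)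
  let a : ∀ n, T1.F n ⟶ T2.F n := fun n => bcNat g v g' t c.w n
  haveI : IsIso (a 0) := by
    haveI : ∀ M, IsIso ((a 0).app M) := fun M => by
      haveI := isIso_bc0_etale g v g' t c M
      haveI : IsIso ((EtCoh.push g).toRightDerivedZero.app M) := inferInstance
      haveI : IsIso ((EtCoh.push g').toRightDerivedZero.app ((EtCoh.pull t).obj M)) := inferInstance
      haveI : IsIso ((EtCoh.pull v).map ((EtCoh.push g).toRightDerivedZero.app M) ≫ EtBC.bcQ g v g' t c.w 0 M) := by
        rw [EtBC.bcQ_zero_compat]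
        infer_instance
      exact IsIso.of_isIso_comp_left ((EtCoh.pull v).map ((EtCoh.push g).toRightDerivedZero.app M))
        (EtBC.bcQ g v g' t c.w 0 M)
    exact NatIso.isIso_of_isIso_app _
  have e := eq_of_zero hT1 a (fun n => (LocCohLib.DeltaFun.isoOfZero hT1 hT2 (asIso (a 0)) n).hom)
    (fun {U} hU n => bcNat_delta g v g' t c.w hU _ n) (comm_isoOfZero hT1 hT2 (asIso (a 0))) rfl q
  haveI : IsIso (a q) := by
    rw [e]
    infer_instance
  exact inferInstanceAs (IsIso ((a q).app F))

end Etale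

section Local

variable {X S Y T : Scheme.{u}} (f : X ⟶ S) (g : T ⟶ S) (h : Y ⟶ X) (e : Y ⟶ T)
  (c : IsPullback e h g f) [PreservesFiniteLimits (EtCoh.pull e)] (F : EtCoh.Ab T) (q : ℕ)

include c in
/-- The base change morphism restricted to an étale object whose composite factors through an étale one. -/
theorem isIso_pull_bcQ (U : X.Etale) (V : S.Etale) (a : U.left ⟶ V.left) (ha : a ≫ V.hom = U.hom ≫ f)
    {Ti Yi : Scheme.{u}} (gi : Ti ⟶ V.left) (ti : Ti ⟶ T) (cT : IsPullback ti gi g V.hom)
    (hi : Yi ⟶ U.left) (ei : Yi ⟶ Ti) (cY : IsPullback ei hi gi a) [PreservesFiniteLimits (EtCoh.pull ei)]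
    (hloc : IsIso (EtBC.bcQ gi a hi ei cY.w q ((EtCoh.pull ti).obj F))) :
    IsIso ((EtCoh.pull U.hom).map (EtBC.bcQ g f h e c.w q F)) := by
  haveI : AlgebraicGeometry.Etale U.hom := U.prop
  haveI : AlgebraicGeometry.Etale V.hom := V.prop
  have co : IsPullback (ei ≫ ti) hi g (U.hom ≫ f) := ha ▸ cY.paste_horiz cT
  let k : Yi ⟶ Y := c.lift (ei ≫ ti) (hi ≫ U.hom) (by rw [co.w, Category.assoc])
  have hk : k ≫ e = ei ≫ ti := c.lift_fst _ _ _
  have ck : IsPullback k hi h U.hom := IsPullback.of_right (by rw [hk]; exact co) (c.lift_snd _ _ _) c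
  haveI := isIso_bcQ_etale g V.hom gi ti cT q F
  have h2 : IsIso (EtBC.bcQ g (U.hom ≫ f) hi (ei ≫ ti) co.w q F) :=
    (isIso_outer_iff V.hom g gi ti cT a hi ei cY (U.hom ≫ f) ha (ei ≫ ti) rfl co q F hloc).2 inferInstance
  exact (isIso_outer_iff f g h e c U.hom hi k ck (U.hom ≫ f) rfl (ei ≫ ti) hk co q F
    (isIso_bcQ_etale h U.hom hi k ck q _)).1 h2

include c in
/-- Being an isomorphism is local for the étale topology. -/
theorem isIso_bcQ_of_local {ι : Type u} (U : ι → X.Etale) (hU : EtCoh.Covers U) (V : ι → S.Etale)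
    (a : ∀ i, (U i).left ⟶ (V i).left) (ha : ∀ i, a i ≫ (V i).hom = (U i).hom ≫ f)
    (Ti Yi : ι → Scheme.{u}) (gi : ∀ i, Ti i ⟶ (V i).left) (ti : ∀ i, Ti i ⟶ T)
    (cT : ∀ i, IsPullback (ti i) (gi i) g (V i).hom)
    (hi : ∀ i, Yi i ⟶ (U i).left) (ei : ∀ i, Yi i ⟶ Ti i) (cY : ∀ i, IsPullback (ei i) (hi i) (gi i) (a i))
    [∀ i, PreservesFiniteLimits (EtCoh.pull (ei i))]
    (hloc : ∀ i, IsIso (EtBC.bcQ (gi i) (a i) (hi i) (ei i) (cY i).w q ((EtCoh.pull (ti i)).obj F))) :
    IsIso (EtBC.bcQ g f h e c.w q F) := by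
  refine (isIso_iff_stalks _).2 fun Ω _ _ ξ => ?_
  obtain ⟨i, y, hy⟩ := hU (ξ.base default)
  obtain ⟨u, -⟩ := exists_fib ξ (U i) y hy
  haveI := isIso_pull_bcQ f g h e c F q (U i) (V i) (a i) (ha i) (gi i) (ti i) (cT i) (hi i) (ei i) (cY i) (hloc i)
  haveI : IsIso ((stk (A := AddCommGrpCat.{u + 1}) (u.hom ≫ (U i).hom)).map (EtBC.bcQ g f h e c.w q F)) :=
    (NatIso.isIso_map_iff (stalkPull (U i).hom u.hom AddCommGrpCat.{u + 1}) _).2
      (inferInstanceAs (IsIso ((stk (A := AddCommGrpCat.{u + 1}) u.hom).map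
        ((EtCoh.pull (U i).hom).map (EtBC.bcQ g f h e c.w q F)))))
  exact (congrArg (fun z => IsIso ((stk (A := AddCommGrpCat.{u + 1}) z).map (EtBC.bcQ g f h e c.w q F))) u.w).mp inferInstance

end Local

end EtBcQLib
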